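import Groth.Agent.S2115
import Groth.Agent.Smoothlim.FPMod
import Groth.Agent.CohqA.HBiprod
import Groth.Agent.CohqB.FiniteType2
import Groth.Agent.PerfC.FPSections
import Groth.Agent.Models2.FPCoh
import Groth.Agent.Fdesc.LocGen

/-!
# Finitely many local sections of a quasi-coherent module come from a module of finite type
-/

set_option autoImplicit false
universe u

open CategoryTheory CategoryTheory.Limits AlgebraicGeometry TopologicalSpace Opposite

noncomputable section

namespace K823.FtSub

open Groth.Agent Groth.Agent.Fdesc.LocGen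
open Groth.Agent.CohqA.HBiprod

attribute [local instance] Abelian.hasFiniteBiproducts

variable {X : Scheme.{u}}

/-- A section over an affine open comes from a finitely presented module. -/
theorem exists_fp_section [CompactSpace X] [QuasiSeparatedSpace X] (F : X.Modules)
    (hF : Coh.IsQCoh F) {V : X.Opens} (hV : IsAffineOpen V) (s : Γ(F, V)) :
    ∃ (G : X.Modules) (_ : CohB1.IsFP G) (φ : G ⟶ F) (g : Γ(G, V)), φ.app V g = s := by
  let φ : Coh.structureModule V ⟶ F.restrict V.ι :=
    homOf (M := F.restrict V.ι) (res F (V.ι_image_le ⊤) s : Γ(F, V.ι ''ᵁ ⊤))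
  obtain ⟨G', φ', e, hG', he⟩ := S2115.result X F hF V hV.isCompact (Coh.structureModule V)
    Smoothlim.FPMod.isFP_unit φ
  have hVt : V ≤ V.ι ''ᵁ ⊤ := by simp
  let g₀ : Γ(G', V.ι ''ᵁ ⊤) := (sec e.inv ⊤ : Γ(G'.restrict V.ι, ⊤))
  refine ⟨G', hG', φ', res G' hVt g₀, ?_⟩
  rw [app_res]
  have h0 : φ'.app (V.ι ''ᵁ ⊤) g₀ = res F (V.ι_image_le ⊤) s := by
    change ((Scheme.Modules.restrictFunctor V.ι).map φ').app ⊤ (sec e.inv ⊤) = _
    rw [← he]
    have h1 : (e.hom ≫ φ).app ⊤ (sec e.inv ⊤) = sec (e.inv ≫ e.hom ≫ φ) ⊤ := rfl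
    rw [h1, e.inv_hom_id_assoc, sec_homOf]
    exact res_refl _ _
  rw [h0, res_res, res_refl]

/-- Sections of a finite direct sum of modules with finitely generated sections. -/
theorem finite_biproduct {J : Type} [Finite J] (F : J → X.Modules) (V : X.Opens)
    (h : ∀ j, Module.Finite Γ(X, V) Γ(F j, V)) : Module.Finite Γ(X, V) Γ(⨁ F, V) := by
  classical
  cases nonempty_fintype J
  let f : (∀ j, Γ(F j, V)) →ₗ[Γ(X, V)] Γ(⨁ F, V) :=
    { toFun := fun x => ∑ j, (biproduct.ι F j).app V (x j)
      map_add' := fun x y => by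
        rw [← Finset.sum_add_distrib]
        exact Finset.sum_congr rfl fun j _ => map_add _ _ _
      map_smul' := fun a x => by
        rw [RingHom.id_apply, Finset.smul_sum]
        exact Finset.sum_congr rfl fun j _ => Scheme.Modules.Hom.app_smul _ _ _ }
  refine Module.Finite.of_surjective f fun x => ⟨fun j => (biproduct.π F j).app V x, ?_⟩
  exact (eq_sum F V x).symm

/-- Finitely many sections over affine opens come from a quasi-coherent module of finite type. -/
theorem exists_ft [CompactSpace X] [QuasiSeparatedSpace X] (F : X.Modules)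
    (hF : Coh.IsQCoh F) {J : Type} [Finite J] (V : J → X.Opens) (hV : ∀ j, IsAffineOpen (V j))
    (s : ∀ j, Γ(F, V j)) :
    ∃ (E : X.Modules) (φ : E ⟶ F), Coh.IsQCoh E ∧
      (∀ U : X.Opens, IsAffineOpen U → Module.Finite Γ(X, U) Γ(E, U)) ∧
      ∀ j, ∃ e : Γ(E, V j), φ.app (V j) e = s j := by
  choose G hG φ g hg using fun j => exists_fp_section F hF (hV j) (s j)
  have hGq : ∀ j, Coh.IsQCoh (G j) := fun j => PerfC.FPSections.isQCoh_of_isFP (hG j)
  refine ⟨⨁ G, biproduct.desc φ, isQCoh_biproduct G hGq, fun U hU => ?_, fun j => ?_⟩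
  · refine finite_biproduct G U fun j => ?_
    have := hGq j
    exact CohqB.FiniteType2.finite_sections_of_isFT (G j) (Models2.FPCoh.isFT_of_isFP (hG j)) hU
  · refine ⟨(biproduct.ι G j).app (V j) (g j), ?_⟩
    have h1 : biproduct.ι G j ≫ biproduct.desc φ = φ j := biproduct.ι_desc _ _
    rw [← hg j, ← h1]
    rfl

end K823.FtSub
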