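import Groth.Agent.RelProj.K823.CoordOf
import Groth.Prelude.Def_LCI2

/-!
# From a very ample module over an affine open of the base to the section condition
-/

set_option autoImplicit false
universe u

open CategoryTheory CategoryTheory.Limits AlgebraicGeometry TopologicalSpace Opposite

noncomputable section

namespace K823.RestrAt

open Groth.Agent.Fdesc.LocGen Groth.Agent.Ega2.Nv Groth.Agent.Ega2.ExtCoeff K43.HomImm K43.VADef
open K823.PnImm K823.CoordOf

variable {X Y Z : Scheme.{u}}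

/-- Nonvanishing loci and restriction along an open immersion. -/
theorem image_nv (j : Z ⟶ X) [IsOpenImmersion j] {M : X.Modules} {U : Z.Opens} (m : Γ(M, j ''ᵁ U)) :
    j ''ᵁ nv (M.restrict j) (toRestrict j m) = nv M m := by
  apply le_antisymm
  · rw [le_nv_iff M m (j.image_mono (nv_le _ _)), ← isGen_toRestrict_iff, ← res_toRestrict]
    exact isGen_nv _ _
  · have h1 : nv M m ≤ j ''ᵁ U := nv_le _ _
    have h2 : j ''ᵁ (j ⁻¹ᵁ nv M m) = nv M m := by
      rw [j.image_preimage_eq_opensRange_inf]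
      exact inf_eq_right.mpr (h1.trans (by
        rw [← j.image_top_eq_opensRange]; exact j.image_mono le_top))
    have h3 : j ⁻¹ᵁ nv M m ≤ U := by
      have := j.preimage_mono h1
      rwa [j.preimage_image_eq] at this
    rw [← h2]
    refine j.image_mono ?_
    rw [le_nv_iff (M.restrict j) (toRestrict j m) h3, res_toRestrict, isGen_toRestrict_iff,
      ← le_nv_iff, h2]

/-- `HImm` and images along open immersions. -/
theorem himm_image (j : Z ⟶ X) [IsOpenImmersion j] (W : Z.Opens) (B : Subring Γ(Z, W)) (h : HImm W B) :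
    HImm (j ''ᵁ W) (B.map (j.appIso W).inv.hom) := by
  have hle : W ≤ j ⁻¹ᵁ (j ''ᵁ W) := (j.preimage_image_eq W).ge
  have h1 : j.resLE (j ''ᵁ W) W hle ≫ (j ''ᵁ W).ι = W.ι ≫ j := Scheme.Hom.resLE_comp_ι _ _
  have h2 : IsOpenImmersion (j.resLE (j ''ᵁ W) W hle) := by
    have : IsOpenImmersion (j.resLE (j ''ᵁ W) W hle ≫ (j ''ᵁ W).ι) := by rw [h1]; infer_instance
    exact IsOpenImmersion.of_comp _ (j ''ᵁ W).ι
  have h3 : Function.Surjective (j.resLE (j ''ᵁ W) W hle) := by
    rintro ⟨y, hy⟩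
    obtain ⟨x, hx, rfl⟩ := hy
    refine ⟨⟨x, hx⟩, Subtype.ext ?_⟩
    have := congrArg (fun f : (W : Scheme.{u}) ⟶ X => f ⟨x, hx⟩) h1
    exact this
  have h4 : IsIso (j.resLE (j ''ᵁ W) W hle) := by
    have : Surjective (j.resLE (j ''ᵁ W) W hle) := ⟨h3⟩
    rw [isIso_iff_isOpenImmersion_and_epi_base]
    exact ⟨h2, (TopCat.epi_iff_surjective _).mpr h3⟩
  have h5 := Scheme.Opens.toSpecΓ_SpecMap_appLE j (j ''ᵁ W) W hle
  rw [← Scheme.Hom.appIso_hom'] at h5
  let ρ' : B →+* Γ(X, j ''ᵁ W) := (j.appIso W).inv.hom.comp B.subtype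
  have h6 : j.resLE (j ''ᵁ W) W hle ≫ mor (j ''ᵁ W) ρ' = mor W B.subtype := by
    rw [mor, mor, ← Category.assoc, ← h5, Category.assoc, ← Spec.map_comp]
    congr 2
    refine CommRingCat.hom_ext (RingHom.ext fun b => ?_)
    have h7 := congr(($((j.appIso W).inv_hom_id)).hom b.1)
    exact h7
  have h8 : IsImmersion (mor (j ''ᵁ W) ρ') := by
    have h9 : mor (j ''ᵁ W) ρ' = inv (j.resLE (j ''ᵁ W) W hle) ≫ mor W B.subtype := by
      rw [← h6, IsIso.inv_hom_id_assoc]
    rw [h9]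
    have : IsImmersion (mor W B.subtype) := h
    infer_instance
  rw [isImmersion_mor_iff] at h8
  refine h8.mono ?_
  rintro _ ⟨b, rfl⟩
  exact ⟨b, b.2, rfl⟩

/-- The ring generated by functions of `U` and ratios. -/
def rU (q : X ⟶ Y) {L : X.Modules} {n : ℕ} {U : Y.Opens} (s : Fin (n + 1) → Γ(L, q ⁻¹ᵁ U)) (k : Fin (n + 1)) :
    Subring Γ(X, nv L (s k)) :=
  Subring.closure (Set.range (fun a : Γ(Y, U) => ores (nv_le L (s k)) (q.app U a)) ∪
    {a | ∃ j, res L (nv_le L (s k)) (s j) = a • res L (nv_le L (s k)) (s k)})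

theorem exists_sections {q : X ⟶ Y} {L : X.Modules} {U : Y.Opens} (hU : IsAffineOpen U)
    (h : RelAmple.IsRelVeryAmplePn (q ∣_ U) (L.restrict (q ⁻¹ᵁ U).ι)) :
    ∃ (n : ℕ) (s : Fin (n + 1) → Γ(L, q ⁻¹ᵁ U)), (∀ x ∈ q ⁻¹ᵁ U, ∃ k, x ∈ nv L (s k)) ∧
      ∀ k, HImm (nv L (s k)) (rU q s k) := by
  obtain ⟨n, i, hi, hq, ⟨e⟩⟩ := h
  have : IsAffine U := hU
  let j := (q ⁻¹ᵁ U).ι
  obtain ⟨s', hs'⟩ := exists_coord i e
  have hjt : q ⁻¹ᵁ U ≤ j ''ᵁ ⊤ := by simp [j]
  let m : Fin (n + 1) → Γ(L, j ''ᵁ ⊤) := fun k => (toRestrict j).symm (s' k)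
  have hm : ∀ k, toRestrict j (m k) = s' k := fun k => (toRestrict j).apply_symm_apply (s' k)
  let s : Fin (n + 1) → Γ(L, q ⁻¹ᵁ U) := fun k => res L hjt (m k)
  have hnv : ∀ k, nv L (s k) = j ''ᵁ nv (L.restrict j) (s' k) := fun k => by
    rw [nv_res, ← image_nv j (m k), hm]
    apply inf_eq_right.mpr
    refine (Scheme.Opens.ι_image_le _ _)
  refine ⟨n, s, fun x hx => ?_, fun k => ?_⟩
  · have h2 : (i ≫ pr n U) (⟨x, hx⟩ : (q ⁻¹ᵁ U : X.Opens)) ∈ ⨆ j, D n j := by
      rw [show (⨆ j, D.{u} n j) = ⊤ from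
        Groth.Agent.CurvesC.ProjSpaceBasic.iSup_Dp n (ULift.{u} ℤ)]; trivial
    obtain ⟨k, hk⟩ := Opens.mem_iSup.mp h2
    refine ⟨k, ?_⟩
    rw [hnv, hs'.nv_eq]
    exact ⟨⟨x, hx⟩, hk, rfl⟩
  · have h1 := himm (q ∣_ U) i hq rfl hs' (isAffineOpen_top (U : Scheme.{u})) k
    have h2 : nv (L.restrict j) (s' k) = (q ∣_ U) ⁻¹ᵁ ⊤ ⊓ nv (L.restrict j) (s' k) := by
      rw [Scheme.Hom.preimage_top, top_inf_eq]
    let W := nv (L.restrict j) (s' k)
    have h3 : HImm W (rg (q ∣_ U) s' ⊤ W (fun _ _ => trivial) k) := by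
      refine himm_congr h2 _ _ ?_ h1
      intro b hb
      refine ores_mem_of_closure h2.le _ _ ?_ hb
      rintro b (⟨a, rfl⟩ | ⟨t, ht⟩)
      · rw [ores_ores]
        exact Subring.subset_closure (Or.inl ⟨a, rfl⟩)
      · refine Subring.subset_closure (Or.inr ⟨t, ?_⟩)
        have := congrArg (res (L.restrict j) h2.le) ht
        rwa [res_smul, res_res, res_res] at this
    have h4 := himm_image j W _ h3
    refine himm_congr (hnv k) _ _ ?_ h4
    rintro _ ⟨b, hb, rfl⟩
    have h5 : rg (q ∣_ U) s' ⊤ W (fun _ _ => trivial) k ≤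
        (rU q s k).comap ((ores (hnv k).le).comp (j.appIso W).inv.hom) := by
      refine Subring.closure_le.mpr ?_
      rintro b (⟨a, rfl⟩ | ⟨t, ht⟩)
      · change ores (hnv k).le ((j.appIso W).inv.hom _) ∈ rU q s k
        refine Subring.subset_closure (Or.inl ?_)
        have hUt : U ≤ U.ι ''ᵁ ⊤ := by simp
        refine ⟨ores hUt a, ?_⟩
        have hb1 : nv L (s k) ≤ q ⁻¹ᵁ (U.ι ''ᵁ ⊤) := (nv_le L (s k)).trans (q.preimage_mono hUt)
        have hl : ores (nv_le L (s k)) (q.app U (ores hUt a)) = q.appLE (U.ι ''ᵁ ⊤) (nv L (s k)) hb1 a := by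
          have e1 : Y.presheaf.map (homOfLE hUt).op ≫ q.app U ≫ X.presheaf.map (homOfLE (nv_le L (s k))).op =
              q.appLE (U.ι ''ᵁ ⊤) (nv L (s k)) hb1 := by
            rw [Scheme.Hom.app_eq_appLE, Scheme.Hom.appLE_map, Scheme.Hom.map_appLE]
          exact congr(($e1).hom a)
        have hr : ores (hnv k).le ((j.appIso W).inv.hom (ores (fun _ _ => trivial : W ≤ (q ∣_ U) ⁻¹ᵁ ⊤)
            ((q ∣_ U).app ⊤ a))) = q.appLE (U.ι ''ᵁ ⊤) (nv L (s k)) hb1 a := by
          rw [morphismRestrict_app']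
          have e2 : q.appLE (U.ι ''ᵁ ⊤) _ (image_morphismRestrict_preimage q U ⊤).le ≫
              X.presheaf.map (j.opensFunctor.map (homOfLE (fun _ _ => trivial : W ≤ (q ∣_ U) ⁻¹ᵁ ⊤))).op ≫
              (j.appIso W).inv ≫ X.presheaf.map (homOfLE (hnv k).le).op =
              q.appLE (U.ι ''ᵁ ⊤) (nv L (s k)) hb1 := by
            have e3 : (j.appIso W).inv ≫ X.presheaf.map (homOfLE (hnv k).le).op =
                X.presheaf.map (homOfLE (hnv k).le).op := by
              have : (j.appIso W).inv = 𝟙 _ := by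
                rw [Scheme.Opens.ι_appIso]; rfl
              rw [this]
              exact Category.id_comp _
            refine (congrArg (fun t => q.appLE (U.ι ''ᵁ ⊤) _ (image_morphismRestrict_preimage q U ⊤).le ≫
              X.presheaf.map (j.opensFunctor.map (homOfLE (fun _ _ => trivial : W ≤ (q ∣_ U) ⁻¹ᵁ ⊤))).op ≫
              t) e3).trans ?_
            refine (Scheme.Hom.appLE_map_assoc q _ _ _).trans ?_
            exact Scheme.Hom.appLE_map q _ _
          exact congr(($e2).hom a)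
        exact hl.trans hr.symm
      · change ores (hnv k).le ((j.appIso W).inv.hom b) ∈ rU q s k
        refine Subring.subset_closure (Or.inr ⟨t, ?_⟩)
        have h6 := congrArg (toRestrict (M := L) j (U := W)).symm ht
        rw [toRestrict_symm_smul] at h6
        have h7 : ∀ k', (toRestrict (M := L) j (U := W)).symm (res (L.restrict j) (le_top : W ≤ ⊤) (s' k')) =
            res L (j.image_mono le_top) (m k') := fun k' => by
          rw [AddEquiv.symm_apply_eq, ← res_toRestrict, hm]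
        rw [h7, h7] at h6
        have h8 := congrArg (res L (hnv k).le) h6
        rw [res_smul, res_res, res_res] at h8
        rw [res_res, res_res]
        exact h8
    exact h5 hb

end K823.RestrAt
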