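import Groth.Agent.RelProj.K823.Criterion
import Groth.Agent.RelProj.K823.RestrAt
import Groth.Agent.RelProj.K823.FtSub
import Groth.Agent.Ega2.AmpleVery
import Groth.Agent.Ega3B.TensRestrict
import Groth.Agent.Mor.K385.VeryAmpleBC
import Groth.Agent.Ega2.QCohLocal
import Groth.Agent.Ega1.QcqsPush

/-!
# Proper quasi-projective morphisms over a quasi-compact quasi-separated base are projective
-/

set_option autoImplicit false
universe u

open CategoryTheory CategoryTheory.Limits AlgebraicGeometry TopologicalSpace Opposite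

noncomputable section

namespace K823.QProj

open Groth.Agent Groth.Agent.Fdesc.LocGen Groth.Agent.Ega2.Nv Groth.Agent.Ega2.ExtCoeff K43.HomImm K43.VADef
open K823.PnImm K823.CoordOf K823.RestrAt

variable {X S : Scheme.{u}}

/-- Invertibility is local on the base. -/
theorem isInvertible_of_cover (f : X ⟶ S) (L : X.Modules)
    (h : ∀ V : S.Opens, IsAffineOpen V → PicF.IsInvertible (L.restrict (f ⁻¹ᵁ V).ι)) :
    PicF.IsInvertible L := by
  rw [isInvertible_iff]
  intro x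
  obtain ⟨_, ⟨V, hV, rfl⟩, hxV, -⟩ := S.isBasis_affineOpens.exists_subset_of_mem_open
    (show f x ∈ (⊤ : S.Opens) from trivial) (⊤ : S.Opens).2
  obtain ⟨U, e, hxU, he⟩ := (isInvertible_iff _).mp (h V hV) ⟨x, hxV⟩
  obtain ⟨m, rfl⟩ := (toRestrict (M := L) (f ⁻¹ᵁ V).ι (U := U)).surjective e
  exact ⟨_, m, ⟨⟨x, hxV⟩, hxU, rfl⟩, (isGen_toRestrict_iff _ _).mp he⟩

/-- A module which is very ample over the members of a finite affine cover of the base. -/
theorem exists_va (f : X ⟶ S) [CompactSpace S] [QuasiSeparatedSpace S] [QuasiCompact f] [QuasiSeparated f]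
    (L : X.Modules) (hL : PicF.IsInvertible L) {m : ℕ} (U : Fin m → S.Opens) (hU : ∀ i, IsAffineOpen (U i))
    (hcov : ∀ s : S, ∃ i, s ∈ U i)
    (hva : ∀ i, RelAmple.IsRelVeryAmplePn (f ∣_ U i) (L.restrict (f ⁻¹ᵁ U i).ι)) :
    ∃ (E : S.Modules) (φ : E ⟶ (Scheme.Modules.pushforward f).obj L), Coh.IsQCoh E ∧
      (∀ U : S.Opens, IsAffineOpen U → Module.Finite Γ(S, U) Γ(E, U)) ∧ VA f φ := by
  choose n s hscov hs using fun i => exists_sections (hU i) (hva i)
  have hF : Coh.IsQCoh ((Scheme.Modules.pushforward f).obj L) :=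
    Ega1.QcqsPush.isQCoh_pushforward f L (Ega2.QCohLocal.isQCoh_of_isInvertible hL)
  let J : Type := Σ i : Fin m, Fin (n i + 1)
  obtain ⟨E, φ, hE, hft, he⟩ := FtSub.exists_ft ((Scheme.Modules.pushforward f).obj L) hF
    (J := J) (fun j => U j.1) (fun j => hU j.1) (fun j => s j.1 j.2)
  choose e he using he
  refine ⟨E, φ, hE, hft, va_of_cover hE fun x => ?_⟩
  obtain ⟨i, hi⟩ := hcov (f x)
  obtain ⟨k, hk⟩ := hscov i x hi
  have hse : ∀ k, se f φ (e ⟨i, k⟩) = s i k := fun k => he ⟨i, k⟩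
  have hnz : nz f φ (e ⟨i, k⟩) = nv L (s i k) := by rw [nz, hse]
  refine ⟨U i, hU i, hi, e ⟨i, k⟩, by rw [hnz]; exact hk, ?_⟩
  refine himm_congr hnz _ _ ?_ (hs i k)
  intro b hb
  refine ores_mem_of_closure hnz.le _ _ ?_ hb
  rintro b (⟨a, rfl⟩ | ⟨j, hj⟩)
  · rw [ores_ores]
    exact app_mem_ratioRing f _ (e ⟨i, k⟩) a
  · refine ratio_mem_ratioRing f _ (e ⟨i, k⟩) (e ⟨i, j⟩) ?_
    rw [hse, hse]
    have h3 := congrArg (res L hnz.le) hj
    rwa [res_smul, res_res, res_res] at h3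

/-- A finite affine cover of a quasi-compact scheme. -/
theorem exists_cover (S : Scheme.{u}) [CompactSpace S] : ∃ (m : ℕ) (U : Fin m → S.Opens),
    (∀ i, IsAffineOpen (U i)) ∧ ∀ s : S, ∃ i, s ∈ U i := by
  obtain ⟨ι, hι, W, hW, -, -, hcov⟩ := exists_finite_affine_cover (X := S) (U := ⊤)
    isCompact_univ (fun _ => True) (fun _ _ _ _ => trivial) (fun x _ => ⟨⊤, trivial, trivial⟩)
  obtain ⟨m, ⟨e⟩⟩ := Finite.exists_equiv_fin ι
  refine ⟨m, fun i => W (e.symm i), fun i => hW _, fun s => ?_⟩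
  obtain ⟨i, hi⟩ := Opens.mem_iSup.mp (hcov (show s ∈ (⊤ : S.Opens) from trivial))
  exact ⟨e i, by simpa using hi⟩

/-- Some power of a relatively ample module is very ample over the members of a finite affine cover. -/
theorem exists_tensorPow_va (f : X ⟶ S) [IsSeparated f] [LocallyOfFiniteType f]
    (L : X.Modules) (hL : RelAmple.IsRelAmple f L) {m : ℕ} (U : Fin m → S.Opens)
    (hU : ∀ i, IsAffineOpen (U i)) :
    ∃ N₀ : ℕ, ∀ N, N₀ ≤ N →
      ∀ i, RelAmple.IsRelVeryAmplePn (f ∣_ U i) ((CohB1.tensorPow L N).restrict (f ⁻¹ᵁ U i).ι) := by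
  have h1 : ∀ i, ∃ n₀ : ℕ, ∀ n, n₀ ≤ n → RelAmple.IsRelVeryAmplePn (f ∣_ U i)
      (CohB1.tensorPow (L.restrict (f ⁻¹ᵁ U i).ι) n) := fun i => by
    have : IsAffine (U i) := hU i
    exact Ega2.AmpleVery.exists_forall_isRelVeryAmplePn (f ∣_ U i) (hL.2 ⟨U i, hU i⟩)
  choose n₀ hn₀ using h1
  refine ⟨Finset.univ.sup n₀, fun N hN i => ?_⟩
  obtain ⟨e⟩ := Ega3B.TensRestrict.restrictPowIso (f ⁻¹ᵁ U i).ι L N
  exact K385.VeryAmpleBC.of_iso (hn₀ i N ((Finset.le_sup (Finset.mem_univ i)).trans hN)) e.symm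

/-- Proper and quasi-projective over a quasi-compact quasi-separated base implies projective. -/
theorem isProjective (f : X ⟶ S) [CompactSpace S] [QuasiSeparatedSpace S] [IsProper f]
    (hq : RelProj.IsQuasiProjective f) : RelProj.IsProjective f := by
  obtain ⟨-, -, L, hL⟩ := hq
  have hLinv : PicF.IsInvertible L :=
    isInvertible_of_cover f L fun V hV => (hL.2 ⟨V, hV⟩).1
  obtain ⟨m, U, hU, hcov⟩ := exists_cover S
  obtain ⟨N, hN⟩ := exists_tensorPow_va f L hL U hU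
  have hLN := isInvertible_tensorPow hLinv N
  obtain ⟨E, φ, hE, hft, hVA⟩ := exists_va f _ hLN U hU hcov (hN N le_rfl)
  exact Criterion.isProjective_of_VA f φ hLN hE hft hVA

end K823.QProj
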