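import Groth.Agent.RelProj.K823.QProj
import Groth.Agent.EGA2.K30.AmpleLoc
import Groth.Agent.S14401
import Groth.Agent.S2278
import Groth.Agent.S1535
import Groth.Agent.S2331
import Groth.Agent.S2337
import Groth.Agent.S2341
import Groth.Agent.S2359
import Groth.Agent.S0558
import Mathlib.AlgebraicGeometry.Morphisms.UniversallyOpen
import Mathlib.AlgebraicGeometry.Noetherian

/-! Quasi-projective morphisms: restriction to an open of the base, composition with a quasi-compact
open immersion; the connected components of a smooth scheme over a field are irreducible; the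
equivalence of generic projectivity and dense quasi-projective opens. -/

set_option autoImplicit false
universe u
open CategoryTheory CategoryTheory.Limits AlgebraicGeometry TopologicalSpace
open Groth.Agent

namespace K823.DenseQP

theorem isQuasiProjective_restrict {X S : Scheme.{u}} {f : X ⟶ S} (h : RelProj.IsQuasiProjective f)
    (V : S.Opens) : RelProj.IsQuasiProjective (f ∣_ V) := by
  obtain ⟨h1, h2, L, hL⟩ := h
  have h3 := (K30.AmpleLoc.isRelAmple_iff_of_iSup_eq_top f L (fun b : Bool => if b then V else ⊤)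
    (by
      rw [eq_top_iff, ← show (if false then V else ⊤ : S.Opens) = ⊤ from rfl]
      exact le_iSup (fun b : Bool => if b then V else (⊤ : S.Opens)) false)).mp hL true
  exact ⟨inferInstance, inferInstance, _, h3⟩

theorem isQuasiProjective_of_embedding {X X' S : Scheme.{u}} {f : X ⟶ S} (h : RelProj.IsQuasiProjective f)
    (j : X' ⟶ X) [QuasiCompact j] [LocallyOfFiniteType j] (hj : Topology.IsEmbedding j.base) :
    RelProj.IsQuasiProjective (j ≫ f) := by
  obtain ⟨h1, h2, L, hL⟩ := h
  exact ⟨inferInstance, inferInstance, _, S2359.result f j hj L hL⟩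

theorem isQuasiProjective_comp {X V S : Scheme.{u}} [CompactSpace S] {f : X ⟶ V}
    (h : RelProj.IsQuasiProjective f) (j : V ⟶ S) [QuasiCompact j] [LocallyOfFiniteType j]
    (hj : Topology.IsEmbedding j.base) :
    RelProj.IsQuasiProjective (f ≫ j) := by
  obtain ⟨h1, h2, L, hL⟩ := h
  obtain ⟨n, -, hn⟩ := S2331.result f j L (Coh.structureModule V) hL ((S2337.result j).mp (S2341.result j hj))
  exact ⟨inferInstance, inferInstance, _, hn n le_rfl⟩

theorem isOpen_connectedComponent {S : Scheme.{u}} [IsNoetherian S]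
    (hS : ∀ x : S, IsDomain (S.presheaf.stalk x)) (s : S) : IsOpen (connectedComponent s) := by
  have h1 := (S14401.result S hS).1
  have h3 := ((S2278.result S (fun x => ⟨Set.univ, Filter.univ_mem, inferInstance⟩)).out 0 1).mp h1
  exact h1 _ (h3 ▸ ⟨s, rfl⟩)

/-- An open meeting every connected component of a Noetherian scheme with integral local rings is
dense. -/
theorem dense_of_meets {S : Scheme.{u}} [IsNoetherian S] (hS : ∀ x : S, IsDomain (S.presheaf.stalk x))
    (V : S.Opens) (hV : ∀ s : S, ∃ s' : S, s' ∈ connectedComponent s ∧ s' ∈ V) : Dense (V : Set S) := by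
  have h1 := (S14401.result S hS).1
  have h2 := ((S2278.result S (fun x => ⟨Set.univ, Filter.univ_mem, inferInstance⟩)).out 0 2).mp h1
  intro s
  rw [mem_closure_iff]
  intro W hW hsW
  obtain ⟨s', hs', hs'V⟩ := hV s
  obtain ⟨t, ht, htW, htV⟩ := (h2 s).2 W V hW V.2 ⟨s, mem_connectedComponent, hsW⟩ ⟨s', hs', hs'V⟩
  exact ⟨t, htW, htV⟩

theorem main {k : Type u} [Field k] {X S : Scheme.{u}} (f : X ⟶ S) (g : S ⟶ Spec (.of k))
    [Smooth g] [IsSeparated g] [QuasiCompact g] [IsProper f] [Smooth f]
    (hqp : ∀ {X Y : Scheme.{u}} (f : X ⟶ Y), RelProj.IsProjective f → RelProj.IsQuasiProjective f) :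
    (∃ U : X.Opens, Dense (U : Set X) ∧ RelProj.IsQuasiProjective (U.ι ≫ f) ∧
        ∀ s : S, ∃ s' : S, s' ∈ connectedComponent s ∧ s' ∉ ⇑f.base '' (U : Set X)ᶜ) ↔
      ∃ V : S.Opens, Dense (V : Set S) ∧ RelProj.IsProjective (f ∣_ V) := by
  have hloc : IsLocallyNoetherian S := LocallyOfFiniteType.isLocallyNoetherian g
  have hc : CompactSpace S := QuasiCompact.compactSpace_of_compactSpace g
  have : IsNoetherian S := {}
  have : IsLocallyNoetherian X := LocallyOfFiniteType.isLocallyNoetherian f
  have : CompactSpace X := QuasiCompact.compactSpace_of_compactSpace f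
  have : IsNoetherian X := {}
  have hS : ∀ x : S, IsDomain (S.presheaf.stalk x) := by
    let : S.Over (Spec (CommRingCat.of k)) := ⟨g⟩
    intro x
    have : Smooth (S ↘ (Spec (CommRingCat.of k))) := inferInstanceAs (Smooth g)
    have := S1535.result k S x
    exact S0558.result _
  constructor
  · rintro ⟨U, hU, hqU, hs⟩
    let V : S.Opens := ⟨(⇑f.base '' (U : Set X)ᶜ)ᶜ, (f.isClosedMap _ U.2.isClosed_compl).isOpen_compl⟩
    have hle : f ⁻¹ᵁ V ≤ U := by
      intro x hx
      by_contra hxU
      exact hx ⟨x, hxU, rfl⟩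
    refine ⟨V, dense_of_meets hS V hs, ?_⟩
    have h1 := isQuasiProjective_restrict hqU V
    have h2 : RelProj.IsQuasiProjective (f ∣_ V) := by
      have hr : Set.range (X.homOfLE hle) ⊆ Set.range ((U.ι ≫ f) ⁻¹ᵁ V).ι := by
        rw [Scheme.Opens.range_ι]
        rintro _ ⟨x, rfl⟩
        change (U.ι ≫ f) (X.homOfLE hle x) ∈ V
        rw [← Scheme.Hom.comp_apply, Scheme.homOfLE_ι_assoc]
        exact x.2
      let j := IsOpenImmersion.lift ((U.ι ≫ f) ⁻¹ᵁ V).ι (X.homOfLE hle) hr
      have hj : j ≫ ((U.ι ≫ f) ⁻¹ᵁ V).ι = X.homOfLE hle := IsOpenImmersion.lift_fac _ _ _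
      have e : f ∣_ V = j ≫ ((U.ι ≫ f) ∣_ V) := by
        rw [← cancel_mono V.ι, Category.assoc, morphismRestrict_ι, morphismRestrict_ι, reassoc_of% hj,
          Scheme.homOfLE_ι_assoc]
      have hj' : IsOpenImmersion (j ≫ ((U.ι ≫ f) ⁻¹ᵁ V).ι) := hj ▸ inferInstance
      have hjo : IsOpenImmersion j := IsOpenImmersion.of_comp j ((U.ι ≫ f) ⁻¹ᵁ V).ι
      rw [e]
      exact isQuasiProjective_of_embedding h1 _ j.isOpenEmbedding.isEmbedding
    have : CompactSpace (V : Scheme.{u}) := isCompact_iff_compactSpace.mp (NoetherianSpace.isCompact _)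
    exact QProj.isProjective _ h2
  · rintro ⟨V, hV, hP⟩
    refine ⟨f ⁻¹ᵁ V, ?_, ?_, fun s => ?_⟩
    · exact hV.preimage f.isOpenMap
    · rw [← morphismRestrict_ι]
      exact isQuasiProjective_comp (hqp _ hP) V.ι V.ι.isOpenEmbedding.isEmbedding
    · have hopen : IsOpen (connectedComponent s) := isOpen_connectedComponent hS s
      obtain ⟨s', h1, h2⟩ := hV.inter_open_nonempty _ hopen ⟨s, mem_connectedComponent⟩
      refine ⟨s', h1, ?_⟩
      rintro ⟨x, hx, rfl⟩
      exact hx h2

end K823.DenseQP
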