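import Groth.Agent.RelProj.K823.ChartIso

/-!
# Compatibility of the morphisms `q⁻¹ U ⟶ Proj` with restriction
-/

set_option autoImplicit false
universe u

open CategoryTheory CategoryTheory.Limits AlgebraicGeometry TopologicalSpace Opposite
open HomogeneousLocalization

noncomputable section

namespace K823.ChartRes

open Groth.Agent.Fdesc.LocGen Groth.Agent.Ega2.Nv Groth.Agent.Ega2.ExtCoeff
open K823.SecRing K823.GrSub K823.GrLoc K823.SecFam K823.ToProj K823.ProjMor K43.VADef K823.ChartMor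
open K823.ChartIso

variable {X Y : Scheme.{u}} (q : X ⟶ Y) {L : X.Modules} {E : Y.Modules}
  (φ : E ⟶ (Scheme.Modules.pushforward q).obj L) {U V : Y.Opens} (hVU : V ≤ U)
  {A σ : Type u} [CommRing A] [SetLike σ A] [AddSubgroupClass σ A] {𝒜 : ℕ → σ}
  [GradedRing 𝒜] (Φ : A ≃+* AA q φ U) (hΦ : ∀ (d : ℕ) (a : A), a ∈ 𝒜 d ↔ Φ a ∈ GG q φ U d)
  (hcov : ∀ x ∈ q ⁻¹ᵁ U, ∃ e : Γ(E, U), x ∈ nz q φ e)
  {B τ : Type u} [CommRing B] [SetLike τ B] [AddSubgroupClass τ B] {ℬ : ℕ → τ}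
  [GradedRing ℬ] (Ψ : B ≃+* AA q φ V) (hΨ : ∀ (d : ℕ) (a : B), a ∈ ℬ d ↔ Ψ a ∈ GG q φ V d)
  (hcov' : ∀ x ∈ q ⁻¹ᵁ V, ∃ e : Γ(E, V), x ∈ nz q φ e)
  (f : 𝒜 →+*ᵍ ℬ)
  (hf : HomogeneousIdeal.irrelevant ℬ ≤ (HomogeneousIdeal.irrelevant 𝒜).map f)
  (hfΦ : ∀ a, Ψ (f a) = rr q φ hVU (Φ a))

omit [AddSubgroupClass σ A] [GradedRing 𝒜] [AddSubgroupClass τ B] [GradedRing ℬ] in
include hfΦ in
theorem evA_comp (j : Idx L (q ⁻¹ᵁ V)) :
    (evA q φ (Ψ : B →+* AA q φ V) j).comp (f : A →+* B) =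
      evA q φ (Φ : A →+* AA q φ U) (j.up (q.preimage_mono hVU)) := by
  refine RingHom.ext fun a => ?_
  change ev q φ j (Ψ (f a)) = ev q φ (j.up (q.preimage_mono hVU)) (Φ a)
  rw [hfΦ, ev_rr]

include hfΦ in
theorem mor_res : X.homOfLE (q.preimage_mono hVU) ≫ mor q φ Φ hΦ hcov =
    mor q φ Ψ hΨ hcov' ≫ Proj.map f hf := by
  refine K36.GlueAff.hom_ext_homOfLE
    (fun e : Γ(E, U) => nz q φ (res E hVU e)) (fun e => nz_le q φ _) (fun x hx => ?_)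
    fun e => ?_
  · obtain ⟨e, he⟩ := hcov x (q.preimage_mono hVU hx)
    refine ⟨e, ?_⟩
    rw [nz_res]
    exact ⟨hx, he⟩
  · set e' := res E hVU e with he'
    let j' : Idx L (q ⁻¹ᵁ U) := (idx q φ e').up (q.preimage_mono hVU)
    let a := hatA q φ Φ e
    have ha : a ∈ 𝒜 1 := hatA_mem q φ _ Φ hΦ e
    have hu : evA q φ (Φ : A →+* AA q φ U) j' a = 1 := by
      rw [evA_hatA]
      have h1 := ev_rr q φ hVU (idx q φ e') (hat q φ e)
      rw [rr_hat, ← he', ev_idx_hat] at h1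
      exact h1.symm
    have hu' : evA q φ (Ψ : B →+* AA q φ V) (idx q φ e') (f a) = 1 :=
      (RingHom.congr_fun (evA_comp q φ hVU Φ Ψ f hfΦ (idx q φ e')) a).trans hu
    let P : Piece q φ 𝒜 (Φ : A →+* AA q φ U) := ⟨j', 1, a, ha, one_pos, by rw [hu]; exact isUnit_one⟩
    let P' : Piece q φ ℬ (Ψ : B →+* AA q φ V) :=
      ⟨idx q φ e', 1, f a, f.map_mem ha, one_pos, by rw [hu']; exact isUnit_one⟩
    have h1 : X.homOfLE P.j.le ≫ mor q φ Φ hΦ hcov = P.mor :=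
      homOfLE_mor q φ Φ hΦ hcov P
    have h2 : X.homOfLE P'.j.le ≫ mor q φ Ψ hΨ hcov' = P'.mor :=
      homOfLE_mor q φ Ψ hΨ hcov' P'
    have h3 : X.homOfLE (nz_le q φ e') ≫ X.homOfLE (q.preimage_mono hVU) ≫
        mor q φ Φ hΦ hcov = P.mor := by
      rw [Scheme.homOfLE_homOfLE_assoc]
      exact h1
    have h4 : X.homOfLE (nz_le q φ e') ≫ mor q φ Ψ hΨ hcov' ≫ Proj.map f hf =
        P'.mor ≫ Proj.map f hf := by
      rw [← Category.assoc]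
      exact congrArg (· ≫ Proj.map f hf) h2
    have hu3 : IsUnit (((evA q φ (Ψ : B →+* AA q φ V) (idx q φ e')).comp (f : A →+* B)) a) := by
      change IsUnit (evA q φ _ (idx q φ e') (f a))
      rw [hu']; exact isUnit_one
    have h5 := toProj_map f hf (nz q φ e')
      (evA q φ (Ψ : B →+* AA q φ V) (idx q φ e')) ha one_pos P'.hu hu3
    have h6 : ∀ (g : A →+* Γ(X, nz q φ e')) (hg : IsUnit (g a)),
        g = evA q φ (Φ : A →+* AA q φ U) j' →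
        P.mor = toProj (nz q φ e') g ha one_pos hg := by
      rintro g hg rfl
      rfl
    have h7 := h6 _ hu3 (evA_comp q φ hVU Φ Ψ f hfΦ (idx q φ e'))
    exact h3.trans (h7.trans (h4.trans h5).symm)

end K823.ChartRes
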