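import Groth.Agent.RelProj.K823.ChartImm
import Groth.Agent.RelProj.K823.ChartRes

/-!
# A criterion for projectivity

`isProjective_of_VA`: `q : X ⟶ Y` universally closed, `L` invertible on `X`, `E` quasi-coherent of finite type on `Y`,
`φ : E ⟶ q_* L` with `K43.VADef.VA q φ`: then `RelProj.IsProjective q`.
-/

set_option autoImplicit false
universe u

open CategoryTheory CategoryTheory.Limits AlgebraicGeometry TopologicalSpace Opposite
open HomogeneousLocalization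

noncomputable section

namespace K823.Criterion

open Groth.Agent.Fdesc.LocGen Groth.Agent.Ega2.Nv Groth.Agent.Ega2.ExtCoeff
open K823.SecRing K823.GrSub K823.GrLoc K823.SecFam K823.ToProj K823.ProjMor K43.VADef K823.ChartMor
open K823.ChartIso K823.ChartImm K43.HomImm K823.AffData K823.GrData

variable {X Y : Scheme.{u}} (q : X ⟶ Y) {L : X.Modules} {E : Y.Modules}
  (φ : E ⟶ (Scheme.Modules.pushforward q).obj L) [QuasiCompact q]
  (hL : PicF.IsInvertible L) (hE : Coh.IsQCoh E)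

/-- The graded algebra. -/
abbrev 𝒮 : RelProj.QCGrAlg Y := (data q φ hL hE).alg

/-- The comparison with the explicit ring. -/
def Φ (U : Y.Opens) (hU : IsAffineOpen U) : (𝒮 q φ hL hE).presheaf.obj (op U) ≃+* AA q φ U :=
  (data q φ hL hE).eqv U hU

theorem hΦ (U : Y.Opens) (hU : IsAffineOpen U) (d : ℕ) (a : (𝒮 q φ hL hE).presheaf.obj (op U)) :
    a ∈ (𝒮 q φ hL hE).deg U hU d ↔ Φ q φ hL hE U hU a ∈ GG q φ U d := Iff.rfl

theorem Φ_str (U : Y.Opens) (hU : IsAffineOpen U) (r : Γ(Y, U)) :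
    Φ q φ hL hE U hU (((𝒮 q φ hL hE).str.app (op U)).hom r) = cst (ρ q L U) (κ q φ U) r :=
  (data q φ hL hE).eqv_str U hU r

theorem Φ_res {U : Y.Opens} (hU : IsAffineOpen U) (r : Γ(Y, U))
    (a : (𝒮 q φ hL hE).presheaf.obj (op U)) :
    Φ q φ hL hE (Y.basicOpen r) (hU.basicOpen r)
      ((𝒮 q φ hL hE).res hU (hU.basicOpen r) (Y.basicOpen_le r) a) =
      rr q φ (Y.basicOpen_le r) (Φ q φ hL hE U hU a) :=
  (data q φ hL hE).eqv_res hU (hU.basicOpen r) ⟨r, rfl⟩ (Y.basicOpen_le r) a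

omit [QuasiCompact q] in
theorem hat_smul {U : Y.Opens} (a : Γ(Y, U)) (e : Γ(E, U)) :
    hat q φ (a • e) = cst (ρ q L U) (κ q φ U) a * hat q φ e := by
  apply Subtype.ext
  rw [MulMemClass.coe_mul, coe_cst, hat, hat, coe_mon, coe_mon, Polynomial.C_mul_monomial, κ_smul]

omit [QuasiCompact q] in
theorem hat_add {U : Y.Opens} (e e' : Γ(E, U)) :
    hat q φ (e + e') = hat q φ e + hat q φ e' := by
  apply Subtype.ext
  rw [AddMemClass.coe_add, hat, hat, hat, coe_mon, coe_mon, coe_mon, κ_add, map_add]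

theorem isGenDegOne : (𝒮 q φ hL hE).IsGenDegOne := by
  intro U hU
  have h1 := GrLoc.closure_eq_top (ρ q L U) (κ q φ U)
  have h2 := congrArg (Subring.map ((Φ q φ hL hE U hU).symm :
    AA q φ U →+* ((𝒮 q φ hL hE).presheaf.obj (op U)))) h1
  rw [RingHom.map_closure, Set.image_union] at h2
  have h3 : ∀ d, ((Φ q φ hL hE U hU).symm : AA q φ U →+* ((𝒮 q φ hL hE).presheaf.obj (op U))) '' (gr (fam (ρ q L U) (κ q φ U)) d : Set _) =
      ((𝒮 q φ hL hE).deg U hU d : Set ((𝒮 q φ hL hE).presheaf.obj (op U))) := by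
    intro d
    ext a
    constructor
    · rintro ⟨b, hb, rfl⟩
      change _ ∈ (𝒮 q φ hL hE).deg U hU d
      rw [hΦ]
      change Φ q φ hL hE U hU ((Φ q φ hL hE U hU).symm b) ∈ _
      rw [RingEquiv.apply_symm_apply]
      exact hb
    · intro ha
      exact ⟨Φ q φ hL hE U hU a, ha, (Φ q φ hL hE U hU).symm_apply_apply a⟩
  rw [h3, h3] at h2
  rw [h2, ← RingHom.range_eq_map, RingHom.range_eq_top]
  exact (Φ q φ hL hE U hU).symm.surjective

theorem isFTDeg (hft : ∀ U : Y.Opens, IsAffineOpen U → Module.Finite Γ(Y, U) Γ(E, U)) :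
    (𝒮 q φ hL hE).IsFTDeg 1 := by
  classical
  intro U hU
  obtain ⟨T, hT⟩ := (hft U hU).fg_top
  let _ : Module Γ(Y, U) ((𝒮 q φ hL hE).presheaf.obj (op U)) :=
    Module.compHom _ ((𝒮 q φ hL hE).str.app (op U)).hom
  have hsm : ∀ (a : Γ(Y, U)) (x : (𝒮 q φ hL hE).presheaf.obj (op U)),
      a • x = ((𝒮 q φ hL hE).str.app (op U)).hom a * x := fun _ _ => rfl
  let lin : Γ(E, U) →ₗ[Γ(Y, U)] ((𝒮 q φ hL hE).presheaf.obj (op U)) :=
    { toFun := fun e => hatA q φ (Φ q φ hL hE U hU) e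
      map_add' := fun e e' => by
        rw [hatA, hatA, hatA, hat_add, map_add]
      map_smul' := fun a e => by
        apply (Φ q φ hL hE U hU).injective
        rw [RingHom.id_apply, hsm, map_mul, Φ_str, hatA, hatA, RingEquiv.apply_symm_apply,
          RingEquiv.apply_symm_apply, hat_smul] }
  refine ⟨T.image lin, ?_, ?_⟩
  · intro x hx
    obtain ⟨e, -, rfl⟩ := Finset.mem_image.mp hx
    exact hatA_mem q φ _ (Φ q φ hL hE U hU) (hΦ q φ hL hE U hU) e
  · intro x hx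
    have h1 : ∃ e, lin e = x := by
      rw [hΦ] at hx
      obtain ⟨e, he⟩ := (mem_one_iff (ρ q L U) (κ q φ U) (κ_add q φ U) (κ_smul q φ U)).mp
        ((Φ q φ hL hE U hU x).2 1)
      refine ⟨e, (Φ q φ hL hE U hU).injective ?_⟩
      change Φ q φ hL hE U hU (hatA q φ (Φ q φ hL hE U hU) e) = _
      rw [hatA, RingEquiv.apply_symm_apply, eq_mon_of_mem _ hx]
      apply Subtype.ext
      rw [hat, coe_mon, coe_mon, he]
    obtain ⟨e, rfl⟩ := h1
    have h2 : lin e ∈ Submodule.span Γ(Y, U) ((T.image lin : Finset _) : Set _) := by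
      rw [Finset.coe_image, Submodule.span_image, hT]
      exact ⟨e, trivial, rfl⟩
    obtain ⟨c, -, hc⟩ := Submodule.mem_span_finset.mp h2
    exact ⟨c, hc.symm⟩

variable (hcov : ∀ (U : Y.Opens), IsAffineOpen U → ∀ x ∈ q ⁻¹ᵁ U, ∃ e : Γ(E, U), x ∈ nz q φ e)

/-- The chart morphism. -/
def chartMor (U : Y.Opens) (hU : IsAffineOpen U) :
    ((q ⁻¹ᵁ U : X.Opens) : Scheme.{u}) ⟶ Proj ((𝒮 q φ hL hE).deg U hU) :=
  mor q φ (Φ q φ hL hE U hU) (hΦ q φ hL hE U hU) (hcov U hU)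

theorem chartMor_res (U : Y.Opens) (hU : IsAffineOpen U) (r : Γ(Y, U)) :
    X.homOfLE (q.preimage_mono (Y.basicOpen_le r)) ≫ chartMor q φ hL hE hcov U hU =
      chartMor q φ hL hE hcov (Y.basicOpen r) (hU.basicOpen r) ≫
        Proj.map ((𝒮 q φ hL hE).res hU (hU.basicOpen r) (Y.basicOpen_le r))
          ((𝒮 q φ hL hE).irrelevant_le_map U hU r) :=
  ChartRes.mor_res q φ (Y.basicOpen_le r) (Φ q φ hL hE U hU) (hΦ q φ hL hE U hU) (hcov U hU)
    (Φ q φ hL hE (Y.basicOpen r) (hU.basicOpen r)) (hΦ q φ hL hE (Y.basicOpen r) (hU.basicOpen r))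
    (hcov (Y.basicOpen r) (hU.basicOpen r)) _ _ (Φ_res q φ hL hE hU r)

theorem chartMor_over (U : Y.Opens) (hU : IsAffineOpen U) :
    chartMor q φ hL hE hcov U hU ≫ Proj.toSpecZero ((𝒮 q φ hL hE).deg U hU) ≫
      Spec.map ((𝒮 q φ hL hE).strZero U hU) ≫ hU.fromSpec = (q ⁻¹ᵁ U).ι ≫ q :=
  mor_over q φ (Φ q φ hL hE U hU) (hΦ q φ hL hE U hU) (hcov U hU) hU
    ((𝒮 q φ hL hE).strZero U hU).hom (Φ_str q φ hL hE U hU)

omit [QuasiCompact q] in
include hL hE in
/-- The criterion. -/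
theorem isProjective_of_VA [UniversallyClosed q]
    (hft : ∀ U : Y.Opens, IsAffineOpen U → Module.Finite Γ(Y, U) Γ(E, U)) (hVA : VA q φ) :
    RelProj.IsProjective q := by
  have hcov : ∀ (U : Y.Opens), IsAffineOpen U → ∀ x ∈ q ⁻¹ᵁ U, ∃ e : Γ(E, U), x ∈ nz q φ e :=
    fun U hU x hx => by
      obtain ⟨e, he, -⟩ := hVA U hU x hx
      exact ⟨e, he⟩
  have h1 : ∀ (U : Y.Opens) (hU : IsAffineOpen U), IsIso (chartMor q φ hL hE hcov U hU) := by
    intro U hU
    have : IsClosedImmersion (mor q φ (Φ q φ hL hE U hU) (hΦ q φ hL hE U hU) (hcov U hU)) :=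
      isClosedImmersion_mor q φ (Φ q φ hL hE U hU) (hΦ q φ hL hE U hU) (hcov U hU) hU
        ((𝒮 q φ hL hE).strZero U hU).hom (Φ_str q φ hL hE U hU) (hVA U hU)
    exact isIso_mor q φ (Φ q φ hL hE U hU) (hΦ q φ hL hE U hU) (hcov U hU) hL hU
  refine ⟨𝒮 q φ hL hE, X, q, fun U hU => @asIso _ _ _ _ (chartMor q φ hL hE hcov U hU) (h1 U hU),
    Iso.refl X, isGenDegOne q φ hL hE, isFTDeg q φ hL hE hft, ⟨?_, ?_⟩, Category.id_comp q⟩
  · intro U hU
    exact chartMor_over q φ hL hE hcov U hU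
  · intro U hU r
    exact chartMor_res q φ hL hE hcov U hU r

end K823.Criterion
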