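import Groth.Prelude.Def_RelProj

/-!
# Quasi-coherent (graded) algebras from affine-local data

* `AffAlg S`: a functor `F` on the affine Zariski site of `S` with a coequifibered structure map.
* `AffAlg.alg D : RelSpec.QCAlg S`, with the isomorphisms `D.gammaAff U : D.alg (U) ⟶ D.F (U)`.
-/

set_option autoImplicit false
universe u

open CategoryTheory CategoryTheory.Limits AlgebraicGeometry TopologicalSpace Opposite

noncomputable section

namespace K823.AffData

/-- An affine open as an object of the affine Zariski site. -/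
def mkA {S : Scheme.{u}} (U : S.Opens) (hU : IsAffineOpen U) : S.AffineZariskiSite := ⟨U, hU⟩

/-- Quasi-coherent algebra given on the affine Zariski site. -/
structure AffAlg (S : Scheme.{u}) where
  /-- sections over affine opens -/
  F : (S.AffineZariskiSite)ᵒᵖ ⥤ CommRingCat.{u}
  /-- structure map -/
  α : (Scheme.AffineZariskiSite.toOpensFunctor S).op ⋙ S.presheaf ⟶ F
  coeq : α.Coequifibered

namespace AffAlg

variable {S : Scheme.{u}} (D : AffAlg S)

/-- The relative gluing datum. -/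
def glueData : (Scheme.AffineZariskiSite.directedCover S).RelativeGluingData :=
  Scheme.AffineZariskiSite.relativeGluingData D.coeq

instance : (D.glueData.functor ⋙ Scheme.forget).IsLocallyDirected :=
  Scheme.Cover.RelativeGluingData.instIsLocallyDirectedI₀CompFunctorForgetOfIsThin ..

/-- The glued scheme. -/
def spec : Scheme.{u} := D.glueData.glued

/-- The structure morphism. -/
def π : D.spec ⟶ S := D.glueData.toBase

variable (U : S.Opens) (hU : IsAffineOpen U)

/-- Sections over an affine open. -/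
def A : CommRingCat.{u} := D.F.obj (op (mkA U hU))

/-- The structure map over an affine open -/
def str : Γ(S, U) ⟶ D.A U hU := D.α.app (op (mkA U hU))

/-- Restriction to a basic open. -/
def res {U V : S.Opens} (hU : IsAffineOpen U) (hV : IsAffineOpen V)
    (i : mkA V hV ≤ mkA U hU) : D.A U hU ⟶ D.A V hV :=
  D.F.map (homOfLE i).op

/-- The charts. -/
def ι : Spec (D.A U hU) ⟶ D.spec :=
  D.glueData.cover.f (mkA U hU)

instance : IsOpenImmersion (D.ι U hU) := D.glueData.cover.map_prop _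

theorem ι_π : D.ι U hU ≫ D.π = Spec.map (D.str U hU) ≫ hU.fromSpec :=
  colimit.ι_desc _ _

theorem π_preimage : D.π ⁻¹ᵁ U = (D.ι U hU).opensRange := by
  simpa using! D.glueData.toBase_preimage_eq_opensRange_ι ⟨U, hU⟩

instance isAffineHom_π : IsAffineHom D.π where
  isAffine_preimage U hU := by
    rw [D.π_preimage U hU]
    exact isAffineOpen_opensRange (D.ι U hU)

/-- The associated quasi-coherent algebra. -/
def alg : RelSpec.QCAlg S := RelSpec.QCAlg.directImage D.π

theorem top_le_preimage :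
    (⊤ : (Spec (D.A U hU)).Opens) ≤ D.ι U hU ⁻¹ᵁ (D.π ⁻¹ᵁ U) := by
  rw [← Scheme.Hom.comp_preimage, D.ι_π, Scheme.Hom.comp_preimage, hU.fromSpec_preimage_self]
  exact le_top

/-- Comparison of sections over an affine open. -/
def gammaAff : Γ(D.spec, D.π ⁻¹ᵁ U) ⟶ D.A U hU :=
  (D.ι U hU).appLE (D.π ⁻¹ᵁ U) ⊤ (D.top_le_preimage U hU) ≫ (Scheme.ΓSpecIso (D.A U hU)).hom

theorem ι_res {U V : S.Opens} (hU : IsAffineOpen U) (hV : IsAffineOpen V)
    (i : mkA V hV ≤ mkA U hU) :
    Spec.map (D.res hU hV i) ≫ D.ι U hU = D.ι V hV :=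
  colimit.w D.glueData.functor (homOfLE i)

instance isIso_gammaAff : IsIso (D.gammaAff U hU) := by
  have : IsIso ((D.ι U hU).appLE (D.π ⁻¹ᵁ U) ⊤ (D.top_le_preimage U hU)) := by
    have h : D.π ⁻¹ᵁ U = D.ι U hU ''ᵁ ⊤ := by
      rw [D.π_preimage U hU, Scheme.Hom.image_top_eq_opensRange]
    have : ∀ (W : D.spec.Opens) (hW : W = D.ι U hU ''ᵁ ⊤) (e : ⊤ ≤ D.ι U hU ⁻¹ᵁ W),
        IsIso ((D.ι U hU).appLE W ⊤ e) := by
      intro W hW e
      subst hW
      rw [← Scheme.Hom.appIso_hom']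
      infer_instance
    exact this _ h _
  unfold gammaAff
  infer_instance

theorem appLE_congr_hom {X Y : Scheme.{u}} {f g : X ⟶ Y} (h : f = g) (V : Y.Opens) (W : X.Opens)
    (e : W ≤ f ⁻¹ᵁ V) (e' : W ≤ g ⁻¹ᵁ V) : f.appLE V W e = g.appLE V W e' := by
  subst h; rfl

theorem gammaAff_naturality {U V : S.Opens} (hU : IsAffineOpen U) (hV : IsAffineOpen V)
    (i : mkA V hV ≤ mkA U hU) (j : V ≤ U) :
    D.spec.presheaf.map (homOfLE (D.π.preimage_mono j)).op ≫ D.gammaAff V hV =
      D.gammaAff U hU ≫ D.res hU hV i := by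
  simp only [gammaAff, Category.assoc, ← Scheme.ΓSpecIso_naturality]
  simp only [← Category.assoc]
  congr 1
  rw [Scheme.Hom.map_appLE, Scheme.Hom.appTop, Scheme.Hom.app_eq_appLE]
  have h1 : (D.ι U hU).appLE (D.π ⁻¹ᵁ U) ⊤ (D.top_le_preimage U hU) ≫
      (Spec.map (D.res hU hV i)).appLE ⊤ ⊤ le_top = (D.ι V hV).appLE (D.π ⁻¹ᵁ U) ⊤
      ((D.top_le_preimage V hV).trans ((D.ι V hV).preimage_mono (D.π.preimage_mono j))) := by
    rw [Scheme.Hom.appLE_comp_appLE]
    exact appLE_congr_hom (D.ι_res hU hV i) _ _ _ _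
  exact h1.symm

theorem str_gammaAff :
    D.π.app U ≫ D.gammaAff U hU = D.str U hU := by
  simp only [gammaAff]
  rw [← Category.assoc, Scheme.Hom.app_eq_appLE, Scheme.Hom.appLE_comp_appLE]
  rw [appLE_congr_hom (D.ι_π U hU) U ⊤ _ (by
    rw [Scheme.Hom.comp_preimage, hU.fromSpec_preimage_self]; exact le_top)]
  rw [← Scheme.Hom.appLE_comp_appLE _ _ U ⊤ ⊤ (by rw [hU.fromSpec_preimage_self]) le_top]
  rw [Category.assoc]
  have h3 : (Spec.map (D.str U hU)).appLE ⊤ ⊤ le_top ≫
      (Scheme.ΓSpecIso (D.A U hU)).hom =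
      (Scheme.ΓSpecIso _).hom ≫ D.str U hU := by
    rw [← Scheme.ΓSpecIso_naturality, Scheme.Hom.appTop, Scheme.Hom.app_eq_appLE]
    rfl
  rw [h3]
  rw [← Category.assoc]
  have h4 : hU.fromSpec.appLE U ⊤ (by rw [hU.fromSpec_preimage_self]) ≫
      (Scheme.ΓSpecIso _).hom = 𝟙 _ := by
    rw [Scheme.Hom.appLE, hU.fromSpec_app_self]
    have h5 : ∀ k : (op ⊤ : (Spec Γ(S, U)).Opensᵒᵖ) ⟶ op ⊤,
        (Spec Γ(S, U)).presheaf.map k = 𝟙 _ := fun k => by
      rw [Subsingleton.elim k (𝟙 _)]; exact CategoryTheory.Functor.map_id _ _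
    rw [Category.assoc, Category.assoc, ← Functor.map_comp_assoc]
    erw [h5]
    rw [Category.id_comp, Iso.inv_hom_id]
  rw [h4]
  exact Category.id_comp _

end AffAlg

end K823.AffData
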