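import Groth.Agent.RelProj.K823.ChartIso
import Mathlib.AlgebraicGeometry.ProjectiveSpectrum.Proper
import Mathlib.AlgebraicGeometry.Morphisms.Proper

/-!
# Immersion and isomorphism criteria for the morphism `q⁻¹ U ⟶ Proj`
-/

set_option autoImplicit false
universe u

open CategoryTheory CategoryTheory.Limits AlgebraicGeometry TopologicalSpace Opposite
open HomogeneousLocalization

noncomputable section

namespace K823.ChartImm

open Groth.Agent.Fdesc.LocGen Groth.Agent.Ega2.Nv Groth.Agent.Ega2.ExtCoeff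
open K823.SecRing K823.GrSub K823.GrLoc K823.SecFam K823.ToProj K823.ProjMor K43.VADef K823.ChartMor
open K823.ChartIso K43.HomImm

variable {X Y : Scheme.{u}} (q : X ⟶ Y) {L : X.Modules} {E : Y.Modules}
  (φ : E ⟶ (Scheme.Modules.pushforward q).obj L) {U : Y.Opens}
  {A σ : Type u} [CommRing A] [SetLike σ A] [AddSubgroupClass σ A] {𝒜 : ℕ → σ}
  [GradedRing 𝒜] (Φ : A ≃+* AA q φ U) (hΦ : ∀ (d : ℕ) (a : A), a ∈ 𝒜 d ↔ Φ a ∈ GG q φ U d)
  (hcov : ∀ x ∈ q ⁻¹ᵁ U, ∃ e : Γ(E, U), x ∈ nz q φ e)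

/-- Comparison of the restriction of `r` over the range of an open immersion with a pullback square. -/
theorem arrow_iso {X' P T W : Scheme.{u}} {r : X' ⟶ P} {i : T ⟶ P} [IsOpenImmersion i] {g : W ⟶ T}
    {k : W ⟶ X'} (H : IsPullback g k i r) :
    Nonempty (Arrow.mk (r ∣_ i.opensRange) ≅ Arrow.mk g) := by
  refine ⟨morphismRestrictOpensRange r i ≪≫ Arrow.isoMk H.flip.isoPullback.symm (Iso.refl _) ?_⟩
  change H.flip.isoPullback.inv ≫ g = pullback.snd r i ≫ 𝟙 _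
  rw [Category.comp_id]
  exact H.flip.isoPullback_inv_snd

theorem isImmersion_mor (h : ∀ x ∈ q ⁻¹ᵁ U, At q φ U x) : IsImmersion (mor q φ Φ hΦ hcov) := by
  choose! e he using h
  refine isImmersion_of_family _
    (fun x : q ⁻¹ᵁ U => (Proj.awayι 𝒜 (hatA q φ Φ (e x.1)) (hatA_mem q φ 𝒜 Φ hΦ (e x.1)) one_pos).opensRange)
    ?_ ?_
  · refine top_le_iff.mp fun x _ => ?_
    rw [Opens.mem_iSup]
    refine ⟨x, ?_⟩
    rw [Proj.opensRange_awayι, mor_preimage]
    exact (he x.1 x.2).1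
  · intro x
    obtain ⟨i⟩ := arrow_iso (isPullback_mor q φ Φ hΦ hcov (e x.1))
    rw [MorphismProperty.arrow_mk_iso_iff @IsImmersion i, isImmersion_mor_iff]
    exact (he x.1 x.2).2.mono (ratioRing_le q φ Φ hΦ _)

theorem isIso_mor [QuasiCompact q] (hL : PicF.IsInvertible L) (hU : IsAffineOpen U)
    [IsClosedImmersion (mor q φ Φ hΦ hcov)] : IsIso (mor q φ Φ hΦ hcov) := by
  have h1 : ∀ e : Γ(E, U), IsIso (K43.HomImm.mor (nz q φ e) (θ q φ 𝒜 Φ e)) := by
    intro e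
    have h2 : IsClosedImmersion (K43.HomImm.mor (nz q φ e) (θ q φ 𝒜 Φ e)) :=
      MorphismProperty.of_isPullback (P := @IsClosedImmersion) (isPullback_mor q φ Φ hΦ hcov e).flip
        inferInstance
    have h3 : IsAffine (nz q φ e) :=
      (IsClosedImmersion.isAffine_surjective_of_isAffine (K43.HomImm.mor (nz q φ e) (θ q φ 𝒜 Φ e))).1
    have h4 : IsIso (nz q φ e).toSpecΓ := by
      rw [Scheme.Opens.toSpecΓ]; infer_instance
    have h5 : IsClosedImmersion (Spec.map (CommRingCat.ofHom (θ q φ 𝒜 Φ e))) := by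
      have h6 : inv (nz q φ e).toSpecΓ ≫ K43.HomImm.mor (nz q φ e) (θ q φ 𝒜 Φ e) =
          Spec.map (CommRingCat.ofHom (θ q φ 𝒜 Φ e)) := by
        rw [K43.HomImm.mor, IsIso.inv_hom_id_assoc]
      rw [← h6]
      infer_instance
    have h7 : IsIso (Spec.map (CommRingCat.ofHom (θ q φ 𝒜 Φ e))) := by
      refine IsClosedImmersion.isIso_of_injective_of_isAffine ?_
      have h8 := Scheme.ΓSpecIso_inv_naturality (CommRingCat.ofHom (θ q φ 𝒜 Φ e))
      have h9 : (Spec.map (CommRingCat.ofHom (θ q φ 𝒜 Φ e))).appTop =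
          (Scheme.ΓSpecIso _).hom ≫ CommRingCat.ofHom (θ q φ 𝒜 Φ e) ≫ (Scheme.ΓSpecIso _).inv := by
        rw [h8, Iso.hom_inv_id_assoc]
      rw [h9]
      have b1 : Function.Bijective (Scheme.ΓSpecIso (CommRingCat.of (Away 𝒜 (hatA q φ Φ e)))).hom :=
        ConcreteCategory.bijective_of_isIso _
      have b2 : Function.Bijective (Scheme.ΓSpecIso Γ(X, nz q φ e)).inv :=
        ConcreteCategory.bijective_of_isIso _
      exact b2.injective.comp ((θ_injective q φ Φ hΦ hL hU e).comp b1.injective)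
    rw [K43.HomImm.mor]
    infer_instance
  refine (MorphismProperty.isomorphisms.iff _).mp ?_
  refine IsZariskiLocalAtTarget.of_iSup_eq_top (P := MorphismProperty.isomorphisms Scheme.{u})
    (fun e : Γ(E, U) => (Proj.awayι 𝒜 (hatA q φ Φ e) (hatA_mem q φ 𝒜 Φ hΦ e) one_pos).opensRange)
    ?_ fun e => ?_
  · simp only [Proj.opensRange_awayι]
    exact iSup_basicOpen q φ Φ hΦ
  · obtain ⟨i⟩ := arrow_iso (isPullback_mor q φ Φ hΦ hcov e)
    rw [MorphismProperty.arrow_mk_iso_iff (MorphismProperty.isomorphisms Scheme.{u}) i]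
    exact h1 e

/-- The morphism lies over `U`. -/
theorem mor_over (hU : IsAffineOpen U) (c : Γ(Y, U) →+* 𝒜 0)
    (hc : ∀ r, Φ (c r : A) = cst (ρ q L U) (κ q φ U) r) :
    mor q φ Φ hΦ hcov ≫ Proj.toSpecZero 𝒜 ≫ Spec.map (CommRingCat.ofHom c) ≫ hU.fromSpec =
      (q ⁻¹ᵁ U).ι ≫ q := by
  refine K36.GlueAff.hom_ext_homOfLE (fun e : Γ(E, U) => nz q φ e) (fun e => nz_le q φ e) hcov
    fun e => ?_
  rw [← Category.assoc, homOfLE_mor_toProj, ← Category.assoc (Proj.toSpecZero 𝒜), ← Category.assoc,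
    toProj_toSpecZero (𝒜 := 𝒜) (nz q φ e) _ (hatA_mem q φ 𝒜 Φ hΦ e) one_pos
      (isUnit_evA_idx q φ Φ e) c (q.appLE U (nz q φ e) (nz_le q φ e)).hom (fun r => ?_)]
  · have h1 := Scheme.Opens.toSpecΓ_SpecMap_appLE q U (nz q φ e) (nz_le q φ e)
    have h2 : CommRingCat.ofHom (q.appLE U (nz q φ e) (nz_le q φ e)).hom =
      q.appLE U (nz q φ e) (nz_le q φ e) := rfl
    rw [h2, h1, Category.assoc, hU.toSpecΓ_fromSpec, Scheme.Hom.resLE_comp_ι, ← Category.assoc,
      Scheme.homOfLE_ι]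
  · change ev q φ (idx q φ e) (Φ (c r : A)) = _
    rw [hc, ev_cst]
    rfl

theorem isClosedImmersion_mor [UniversallyClosed q] (hU : IsAffineOpen U) (c : Γ(Y, U) →+* 𝒜 0)
    (hc : ∀ r, Φ (c r : A) = cst (ρ q L U) (κ q φ U) r)
    (h : ∀ x ∈ q ⁻¹ᵁ U, At q φ U x) : IsClosedImmersion (mor q φ Φ hΦ hcov) := by
  have h1 : IsImmersion (mor q φ Φ hΦ hcov) := isImmersion_mor q φ Φ hΦ hcov h
  have h2 : UniversallyClosed (mor q φ Φ hΦ hcov) := by
    have h3 : mor q φ Φ hΦ hcov ≫ (Proj.toSpecZero 𝒜 ≫ Spec.map (CommRingCat.ofHom c) ≫ hU.isoSpec.inv) =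
        q ∣_ U := by
      rw [← cancel_mono U.ι, morphismRestrict_ι, Category.assoc, Category.assoc, Category.assoc,
        hU.isoSpec_inv_ι, mor_over q φ Φ hΦ hcov hU c hc]
    have h4 : UniversallyClosed (mor q φ Φ hΦ hcov ≫
        (Proj.toSpecZero 𝒜 ≫ Spec.map (CommRingCat.ofHom c) ≫ hU.isoSpec.inv)) := by
      rw [h3]; infer_instance
    exact UniversallyClosed.of_comp_of_isSeparated _ 
      (Proj.toSpecZero 𝒜 ≫ Spec.map (CommRingCat.ofHom c) ≫ hU.isoSpec.inv)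
  exact IsClosedImmersion.of_isPreimmersion _ (mor q φ Φ hΦ hcov).isClosedMap.isClosed_range

end K823.ChartImm
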