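import Groth.Agent.RelProj.K823.ChartMor

/-!
# When the morphism `q⁻¹ U ⟶ Proj` is an isomorphism
-/

set_option autoImplicit false
universe u

open CategoryTheory CategoryTheory.Limits AlgebraicGeometry TopologicalSpace Opposite
open HomogeneousLocalization

noncomputable section

namespace K823.ChartIso

open Groth.Agent.Fdesc.LocGen Groth.Agent.Ega2.Nv Groth.Agent.Ega2.ExtCoeff
open K823.SecRing K823.GrSub K823.GrLoc K823.SecFam K823.ToProj K823.ProjMor K43.VADef K823.ChartMor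

variable {X Y : Scheme.{u}} (q : X ⟶ Y) {L : X.Modules} {E : Y.Modules}
  (φ : E ⟶ (Scheme.Modules.pushforward q).obj L) {U : Y.Opens}
  {A σ : Type u} [CommRing A] [SetLike σ A] [AddSubgroupClass σ A] (𝒜 : ℕ → σ)
  [GradedRing 𝒜] (Φ : A ≃+* AA q φ U) (hΦ : ∀ (d : ℕ) (a : A), a ∈ 𝒜 d ↔ Φ a ∈ GG q φ U d)

/-- The element of `A` attached to a section. -/
def hatA (e : Γ(E, U)) : A := Φ.symm (hat q φ e)

omit [AddSubgroupClass σ A] [GradedRing 𝒜] in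
include hΦ in
theorem hatA_mem (e : Γ(E, U)) : hatA q φ Φ e ∈ 𝒜 1 := by
  rw [hΦ, hatA, RingEquiv.apply_symm_apply]
  exact hat_mem q φ e

theorem evA_hatA (j : Idx L (q ⁻¹ᵁ U)) (e : Γ(E, U)) :
    evA q φ (Φ : A →+* AA q φ U) j (hatA q φ Φ e) = ev q φ j (hat q φ e) := by
  change ev q φ j (Φ (Φ.symm (hat q φ e))) = _
  rw [RingEquiv.apply_symm_apply]

theorem evA_idx_hatA (e : Γ(E, U)) :
    evA q φ (Φ : A →+* AA q φ U) (idx q φ e) (hatA q φ Φ e) = 1 := by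
  rw [evA_hatA, ev_idx_hat]

theorem isUnit_evA_idx (e : Γ(E, U)) :
    IsUnit (evA q φ (Φ : A →+* AA q φ U) (idx q φ e) (hatA q φ Φ e)) := by
  rw [evA_idx_hatA]; exact isUnit_one

variable {𝒜}

/-- The piece attached to a section. -/
def pieceOf (e : Γ(E, U)) : Piece q φ 𝒜 (Φ : A →+* AA q φ U) :=
  ⟨idx q φ e, 1, hatA q φ Φ e, hatA_mem q φ 𝒜 Φ hΦ e, one_pos, isUnit_evA_idx q φ Φ e⟩

variable (hcov : ∀ x ∈ q ⁻¹ᵁ U, ∃ e : Γ(E, U), x ∈ nz q φ e)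

/-- The morphism to `Proj`. -/
def mor : ((q ⁻¹ᵁ U : X.Opens) : Scheme.{u}) ⟶ Proj 𝒜 :=
  (exists_mor q φ (Φ := (Φ : A →+* AA q φ U)) (fun d a h => (hΦ d a).mp h)
    (fun x hx => ⟨pieceOf q φ Φ hΦ (hcov x hx).choose, (hcov x hx).choose_spec⟩)).choose

theorem homOfLE_mor (P : Piece q φ 𝒜 (Φ : A →+* AA q φ U)) :
    X.homOfLE P.j.le ≫ mor q φ Φ hΦ hcov = P.mor :=
  (exists_mor q φ (Φ := (Φ : A →+* AA q φ U)) (fun d a h => (hΦ d a).mp h)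
    (fun x hx => ⟨pieceOf q φ Φ hΦ (hcov x hx).choose, (hcov x hx).choose_spec⟩)).choose_spec P

variable (𝒜) in
/-- The evaluation on `A_(e)`. -/
def θ (e : Γ(E, U)) : Away 𝒜 (hatA q φ Φ e) →+* Γ(X, nz q φ e) :=
  theta (evA q φ (Φ : A →+* AA q φ U) (idx q φ e)) (isUnit_evA_idx q φ Φ e) 𝒜

theorem homOfLE_mor_toProj (e : Γ(E, U)) :
    X.homOfLE (nz_le q φ e) ≫ mor q φ Φ hΦ hcov =
      toProj (nz q φ e) (evA q φ (Φ : A →+* AA q φ U) (idx q φ e)) (hatA_mem q φ 𝒜 Φ hΦ e) one_pos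
        (isUnit_evA_idx q φ Φ e) :=
  homOfLE_mor q φ Φ hΦ hcov (pieceOf q φ Φ hΦ e)

theorem homOfLE_mor' (e : Γ(E, U)) :
    X.homOfLE (nz_le q φ e) ≫ mor q φ Φ hΦ hcov =
      K43.HomImm.mor (nz q φ e) (θ q φ 𝒜 Φ e) ≫
        Proj.awayι 𝒜 (hatA q φ Φ e) (hatA_mem q φ 𝒜 Φ hΦ e) one_pos := by
  rw [K43.HomImm.mor, Category.assoc]
  exact homOfLE_mor_toProj q φ Φ hΦ hcov e

theorem mor_preimage (e : Γ(E, U)) :
    mor q φ Φ hΦ hcov ⁻¹ᵁ Proj.basicOpen 𝒜 (hatA q φ Φ e) = (q ⁻¹ᵁ U).ι ⁻¹ᵁ nz q φ e := by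
  ext x
  obtain ⟨t, ht⟩ := hcov x.1 x.2
  have h1 : ∃ y : nz q φ t, X.homOfLE (nz_le q φ t) y = x := by
    refine ⟨⟨x.1, ht⟩, ?_⟩
    apply Subtype.ext
    have h2 : (q ⁻¹ᵁ U).ι (X.homOfLE (nz_le q φ t) ⟨x.1, ht⟩) = (nz q φ t).ι ⟨x.1, ht⟩ := by
      rw [← Scheme.Hom.comp_apply, Scheme.homOfLE_ι]
    exact h2
  obtain ⟨y, rfl⟩ := h1
  have h2 : (q ⁻¹ᵁ U).ι (X.homOfLE (nz_le q φ t) y) = (nz q φ t).ι y := by
    rw [← Scheme.Hom.comp_apply, Scheme.homOfLE_ι]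
  have h3 : mor q φ Φ hΦ hcov (X.homOfLE (nz_le q φ t) y) = toProj (nz q φ t)
      (evA q φ (Φ : A →+* AA q φ U) (idx q φ t)) (hatA_mem q φ 𝒜 Φ hΦ t) one_pos
        (isUnit_evA_idx q φ Φ t) y := by
    rw [← Scheme.Hom.comp_apply, homOfLE_mor_toProj]
  change mor q φ Φ hΦ hcov (X.homOfLE (nz_le q φ t) y) ∈ Proj.basicOpen 𝒜 (hatA q φ Φ e) ↔
    (q ⁻¹ᵁ U).ι (X.homOfLE (nz_le q φ t) y) ∈ nz q φ e
  rw [h2, h3]
  have h4 := toProj_preimage (𝒜 := 𝒜) (nz q φ t) (evA q φ (Φ : A →+* AA q φ U) (idx q φ t))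
    (hatA_mem q φ 𝒜 Φ hΦ t) one_pos (isUnit_evA_idx q φ Φ t) (hatA_mem q φ 𝒜 Φ hΦ e) one_pos
  have h5 : toProj (nz q φ t) (evA q φ (Φ : A →+* AA q φ U) (idx q φ t)) (hatA_mem q φ 𝒜 Φ hΦ t) one_pos
        (isUnit_evA_idx q φ Φ t) y ∈ Proj.basicOpen 𝒜 (hatA q φ Φ e) ↔
      y ∈ (nz q φ t).ι ⁻¹ᵁ X.basicOpen (evA q φ (Φ : A →+* AA q φ U) (idx q φ t) (hatA q φ Φ e)) :=
    Iff.of_eq (congrArg (fun D : (nz q φ t : Scheme.{u}).Opens => y ∈ D) h4)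
  rw [h5, evA_hatA, isUnit_ev_hat_iff]
  change (nz q φ t).ι y ∈ nz q φ t ⊓ nz q φ e ↔ _
  exact ⟨fun h => h.2, fun h => ⟨y.2, h⟩⟩

theorem isPullback_mor (e : Γ(E, U)) :
    IsPullback (K43.HomImm.mor (nz q φ e) (θ q φ 𝒜 Φ e)) (X.homOfLE (nz_le q φ e))
      (Proj.awayι 𝒜 (hatA q φ Φ e) (hatA_mem q φ 𝒜 Φ hΦ e) one_pos) (mor q φ Φ hΦ hcov) := by
  refine GlueLE.isPullback_homOfLE _ _ _ _ (homOfLE_mor' q φ Φ hΦ hcov e) ?_
  rw [Proj.opensRange_awayι]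
  exact mor_preimage q φ Φ hΦ hcov e

theorem mk_eq_zero {a b : A} {d n : ℕ} (ha : a ∈ 𝒜 d) (hb : b ∈ 𝒜 (n • d)) {k : ℕ} (h : a ^ k * b = 0) :
    Away.mk 𝒜 ha n b hb = 0 := by
  ext
  rw [Away.val_mk, val_zero, Localization.mk_eq_mk', IsLocalization.mk'_eq_zero_iff]
  exact ⟨⟨a ^ k, k, rfl⟩, h⟩

include hΦ in
theorem θ_injective [QuasiCompact q] (hL : PicF.IsInvertible L) (hU : IsAffineOpen U) (e : Γ(E, U)) :
    Function.Injective (θ q φ 𝒜 Φ e) := by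
  rw [injective_iff_map_eq_zero]
  intro x hx
  have ha := hatA_mem q φ 𝒜 Φ hΦ e
  obtain ⟨n, b, hb, rfl⟩ := Away.mk_surjective 𝒜 ha x
  have h1 := theta_mk (evA q φ (Φ : A →+* AA q φ U) (idx q φ e)) (isUnit_evA_idx q φ Φ e) ha n b hb
  rw [show theta (evA q φ (Φ : A →+* AA q φ U) (idx q φ e)) (isUnit_evA_idx q φ Φ e) 𝒜 _ = 0 from hx,
    zero_mul] at h1
  set m := n • 1 with hm
  have hb' : Φ b ∈ GG q φ U m := (hΦ _ _).mp hb
  have h2 : (Φ b).1.coeff m (idx q φ e) = 0 := by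
    rw [← ev_of_mem q φ _ hb']
    exact h1.symm
  have hcm := coeff_mem_compat q φ (Φ b) m
  have h3 : bres (nz_le q φ e) ((Φ b).1.coeff m) = 0 := by
    refine eq_zero_of_cover (bres_mem_compat _ hcm) (ι := Unit)
      (fun _ => ⟨nz q φ e, le_rfl, res L (nz_le q φ e) (se q φ e), isGen_nz q φ e⟩)
      (le_iSup (fun _ : Unit => nz q φ e) ()) fun _ => ?_
    exact h2
  have hc : IsCompact ((q ⁻¹ᵁ U : X.Opens) : Set X) := q.isCompact_preimage hU.isCompact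
  have hloc : LocGen L (q ⁻¹ᵁ U) := by
    intro x hx
    obtain ⟨V, e, hxV, he⟩ := (isInvertible_iff L).mp hL x
    exact ⟨V ⊓ q ⁻¹ᵁ U, res L inf_le_left e, ⟨hxV, hx⟩, inf_le_right, he.res _⟩
  obtain ⟨k, hk⟩ := SecRing.exists_pow_mul_eq_zero hc hloc hcm (crd_mem_compat (se q φ e))
    (nz_le q φ e) (fun j => by
      rw [← ev_hat q φ j e, isUnit_ev_hat_iff]
      exact inf_le_right) h3
  refine mk_eq_zero (k := k) ha hb (Φ.injective ?_)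
  rw [map_mul, map_pow, map_zero, hatA, RingEquiv.apply_symm_apply, eq_mon_of_mem _ hb', hat, mon_pow,
    mon_mul_mon]
  apply Subtype.ext
  rw [coe_mon]
  have h5 : κ q φ U e ^ k * (Φ b).1.coeff m = 0 := hk
  rw [h5, map_zero]
  rfl

include hΦ in
theorem ratioRing_le (e : Γ(E, U)) : ratioRing q φ e ≤ (θ q φ 𝒜 Φ e).range := by
  have ha := hatA_mem q φ 𝒜 Φ hΦ e
  rw [ratioRing, Subring.closure_le]
  rintro x (⟨a, rfl⟩ | ⟨t, ht⟩)
  · have hb : Φ.symm (cst (ρ q L U) (κ q φ U) a) ∈ 𝒜 (0 • 1) := by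
      rw [hΦ, RingEquiv.apply_symm_apply, zero_smul]
      exact cst_mem _ _ a
    refine ⟨Away.mk 𝒜 ha 0 _ hb, ?_⟩
    have h1 := theta_mk (evA q φ (Φ : A →+* AA q φ U) (idx q φ e)) (isUnit_evA_idx q φ Φ e) ha 0 _ hb
    rw [pow_zero, mul_one] at h1
    refine h1.trans ?_
    change ev q φ (idx q φ e) (Φ (Φ.symm _)) = _
    rw [RingEquiv.apply_symm_apply, ev_cst]
    rfl
  · have hb : hatA q φ Φ t ∈ 𝒜 (1 • 1) := by
      rw [one_smul]; exact hatA_mem q φ 𝒜 Φ hΦ t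
    refine ⟨Away.mk 𝒜 ha 1 _ hb, ?_⟩
    have h1 := theta_mk (evA q φ (Φ : A →+* AA q φ U) (idx q φ e)) (isUnit_evA_idx q φ Φ e) ha 1 _ hb
    rw [pow_one, evA_idx_hatA, mul_one] at h1
    refine h1.trans ?_
    rw [evA_hatA]
    exact ev_idx_ratio q φ e t ht

include hΦ in
/-- `Proj 𝒜` is covered by the standard opens of the sections. -/
theorem iSup_basicOpen : ⨆ e : Γ(E, U), Proj.basicOpen 𝒜 (hatA q φ Φ e) = ⊤ := by
  classical
  refine Proj.iSup_basicOpen_eq_top 𝒜 (fun e : Γ(E, U) => hatA q φ Φ e) ?_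
  have key : ∀ (n : ℕ) (x : B L (q ⁻¹ᵁ U)) (hx : x ∈ (FF q φ U).I (n + 1)),
      mon (FF q φ U) (n + 1) x hx ∈ Ideal.span (Set.range (hat q φ (U := U))) := by
    intro n x hx
    have hx2 := hx
    change x ∈ AddSubgroup.closure (gens (ρ q L U) (κ q φ U) (n + 1)) at hx2
    induction hx2 using AddSubgroup.closure_induction with
    | mem x hx' =>
      obtain ⟨r, l, hl, rfl⟩ := hx'
      obtain ⟨e, l, rfl⟩ : ∃ e l', l = e :: l' := by
        cases l with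
        | nil => simp at hl
        | cons e l => exact ⟨e, l, rfl⟩
      have hl' : l.length = n := by simpa using hl
      have h1 : ρ q L U r * (l.map (κ q φ U)).prod ∈ (FF q φ U).I n :=
        AddSubgroup.subset_closure ⟨r, l, hl', rfl⟩
      have h2 : mon (FF q φ U) (n + 1) _ hx = mon (FF q φ U) n _ h1 * hat q φ e := by
        rw [hat, mon_mul_mon]
        apply Subtype.ext
        rw [coe_mon, coe_mon, List.map_cons, List.prod_cons]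
        congr 1
        ring
      rw [h2]
      exact Ideal.mul_mem_left _ _ (Ideal.subset_span ⟨e, rfl⟩)
    | zero =>
      have : mon (FF q φ U) (n + 1) 0 hx = 0 := Subtype.ext (by rw [coe_mon]; simp)
      rw [this]; exact zero_mem _
    | add x y hx' hy' ihx ihy =>
      have : mon (FF q φ U) (n + 1) (x + y) hx =
          mon (FF q φ U) (n + 1) x hx' + mon (FF q φ U) (n + 1) y hy' :=
        Subtype.ext (by simp only [AddMemClass.coe_add, coe_mon]; rw [map_add])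
      rw [this]; exact add_mem (ihx hx') (ihy hy')
    | neg x hx' ihx =>
      have : mon (FF q φ U) (n + 1) (-x) hx = -mon (FF q φ U) (n + 1) x hx' :=
        Subtype.ext (by simp only [NegMemClass.coe_neg, coe_mon]; rw [map_neg])
      rw [this]; exact neg_mem (ihx hx')
  rw [HomogeneousIdeal.toIdeal_irrelevant_le]
  intro i hi a ha
  obtain ⟨n, rfl⟩ : ∃ n, i = n + 1 := ⟨i - 1, by omega⟩
  have h1 : Φ a ∈ Ideal.span (Set.range (hat q φ (U := U))) := by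
    rw [eq_mon_of_mem _ ((hΦ _ _).mp ha)]
    exact key n _ _
  have h2 := Ideal.mem_map_of_mem (Φ.symm : AA q φ U →+* A) h1
  rw [Ideal.map_span, ← Set.range_comp] at h2
  have h3 : (Φ.symm : AA q φ U →+* A) (Φ a) = a := Φ.symm_apply_apply a
  rw [h3] at h2
  exact h2

end K823.ChartIso
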