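import Groth.Agent.EGA2.K36.GlueAff
import Mathlib.AlgebraicGeometry.Morphisms.Immersion

/-!
# Glueing morphisms from an open subscheme along smaller opens; pullback squares over open immersions
-/

set_option autoImplicit false
universe u

open CategoryTheory CategoryTheory.Limits AlgebraicGeometry Opposite TopologicalSpace

namespace K823.GlueLE

variable {X Z : Scheme.{u}}

/-- The inclusion of `V.ι ⁻¹ᵁ W` in `W`. -/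
noncomputable def toW (V W : X.Opens) : ((V.ι ⁻¹ᵁ W : V.toScheme.Opens) : Scheme.{u}) ⟶ W :=
  V.ι.resLE W (V.ι ⁻¹ᵁ W) le_rfl

theorem toW_ι (V W : X.Opens) : toW V W ≫ W.ι = (V.ι ⁻¹ᵁ W).ι ≫ V.ι :=
  Scheme.Hom.resLE_comp_ι _ _

/-- The inclusion of `W` in `V.ι ⁻¹ᵁ W` for `W ≤ V`. -/
noncomputable def ofW {V W : X.Opens} (h : W ≤ V) : (W : Scheme.{u}) ⟶ (V.ι ⁻¹ᵁ W : V.toScheme.Opens) :=
  IsOpenImmersion.lift (V.ι ⁻¹ᵁ W).ι (X.homOfLE h) (by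
    rw [Scheme.Opens.range_ι]
    rintro _ ⟨x, rfl⟩
    have h1 : V.ι (X.homOfLE h x) = W.ι x := by
      rw [← Scheme.Hom.comp_apply, Scheme.homOfLE_ι]
    change V.ι (X.homOfLE h x) ∈ W
    rw [h1]
    exact x.2)

theorem ofW_ι {V W : X.Opens} (h : W ≤ V) : ofW h ≫ (V.ι ⁻¹ᵁ W).ι = X.homOfLE h :=
  IsOpenImmersion.lift_fac _ _ _

theorem ofW_toW {V W : X.Opens} (h : W ≤ V) : ofW h ≫ toW V W = 𝟙 _ := by
  rw [← cancel_mono W.ι, Category.assoc, toW_ι, ← Category.assoc, ofW_ι, Scheme.homOfLE_ι,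
    Category.id_comp]

/-- Glueing along opens covering an open. -/
theorem exists_glue {ι : Type u} {V : X.Opens} (W : ι → X.Opens) (hWV : ∀ i, W i ≤ V)
    (hW : ∀ x ∈ V, ∃ i, x ∈ W i) (g : ∀ i, (W i : Scheme.{u}) ⟶ Z)
    (hg : ∀ i j, X.homOfLE (inf_le_left : W i ⊓ W j ≤ W i) ≫ g i =
      X.homOfLE (inf_le_right : W i ⊓ W j ≤ W j) ≫ g j) :
    ∃ a : (V : Scheme.{u}) ⟶ Z, ∀ i, X.homOfLE (hWV i) ≫ a = g i := by
  obtain ⟨a, ha⟩ := K36.GlueAff.exists_glue_opens (X := V) (fun i => V.ι ⁻¹ᵁ W i) (fun x => by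
      obtain ⟨i, hi⟩ := hW x.1 x.2
      exact ⟨i, hi⟩) (fun i => toW V (W i) ≫ g i) (fun i j => by
      have e1 := Scheme.Hom.map_resLE V.ι (e := (le_rfl : V.ι ⁻¹ᵁ W i ≤ V.ι ⁻¹ᵁ W i))
        (inf_le_left : V.ι ⁻¹ᵁ W i ⊓ V.ι ⁻¹ᵁ W j ≤ V.ι ⁻¹ᵁ W i)
      have e2 := Scheme.Hom.map_resLE V.ι (e := (le_rfl : V.ι ⁻¹ᵁ W j ≤ V.ι ⁻¹ᵁ W j))
        (inf_le_right : V.ι ⁻¹ᵁ W i ⊓ V.ι ⁻¹ᵁ W j ≤ V.ι ⁻¹ᵁ W j)
      have e3 := Scheme.Hom.resLE_map V.ι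
        (e := (le_rfl : V.ι ⁻¹ᵁ W i ⊓ V.ι ⁻¹ᵁ W j ≤ V.ι ⁻¹ᵁ (W i ⊓ W j)))
        (inf_le_left : W i ⊓ W j ≤ W i)
      have e4 := Scheme.Hom.resLE_map V.ι
        (e := (le_rfl : V.ι ⁻¹ᵁ W i ⊓ V.ι ⁻¹ᵁ W j ≤ V.ι ⁻¹ᵁ (W i ⊓ W j)))
        (inf_le_right : W i ⊓ W j ≤ W j)
      rw [toW, toW, ← Category.assoc, ← Category.assoc, e1, e2, ← e3, ← e4, Category.assoc,
        Category.assoc, hg i j])
  refine ⟨a, fun i => ?_⟩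
  rw [← ofW_ι (hWV i), Category.assoc, ha i, ← Category.assoc, ofW_toW, Category.id_comp]

/-- A pullback square over an open immersion, from the preimage of its range. -/
theorem isPullback_homOfLE {V W : X.Opens} (h : W ≤ V) {P T : Scheme.{u}} (r : (V : Scheme.{u}) ⟶ P) (i : T ⟶ P)
    [IsOpenImmersion i] (g : (W : Scheme.{u}) ⟶ T) (hg : X.homOfLE h ≫ r = g ≫ i)
    (hr : r ⁻¹ᵁ i.opensRange = V.ι ⁻¹ᵁ W) : IsPullback g (X.homOfLE h) i r :=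
  IsOpenImmersion.isPullback _ _ _ _ hg (by rw [hr, Scheme.opensRange_homOfLE])

end K823.GlueLE
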