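import Groth.Agent.RelProj.K823.ToProj
import Groth.Agent.Fdesc.LocGen

/-!
# Morphisms from opens to `Proj`

For an open `V` of a scheme `X`, a ring homomorphism `ev : A →+* Γ(X, V)` from a graded ring and a
homogeneous `a` of positive degree with `ev a` a unit: `toProj V ev : V ⟶ Proj 𝒜`.
-/

set_option autoImplicit false
universe u

open CategoryTheory CategoryTheory.Limits AlgebraicGeometry TopologicalSpace Opposite
open HomogeneousLocalization

noncomputable section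

namespace K823.ProjMor

open K823.ToProj Groth.Agent.Fdesc.LocGen

variable {A σ : Type u} [CommRing A] [SetLike σ A] [AddSubgroupClass σ A] {𝒜 : ℕ → σ}
  [GradedRing 𝒜] {X : Scheme.{u}}

/-- The morphism `V ⟶ D₊(a) ⊆ Proj 𝒜`. -/
def toProj (V : X.Opens) (ev : A →+* Γ(X, V)) {a : A} {d : ℕ} (ha : a ∈ 𝒜 d) (hd : 0 < d)
    (hu : IsUnit (ev a)) : (V : Scheme.{u}) ⟶ Proj 𝒜 :=
  V.toSpecΓ ≫ Spec.map (CommRingCat.ofHom (theta ev hu 𝒜)) ≫ Proj.awayι 𝒜 a ha hd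

theorem toProj_mul (V : X.Opens) (ev : A →+* Γ(X, V)) {a : A} {d : ℕ} (ha : a ∈ 𝒜 d) (hd : 0 < d)
    (hu : IsUnit (ev a)) {c x : A} {e : ℕ} (hc : c ∈ 𝒜 e) (hx : x = a * c)
    (hux : IsUnit (ev x)) :
    toProj V ev (hx ▸ SetLike.mul_mem_graded ha hc) (hd.trans_le (d.le_add_right e)) hux =
      toProj V ev ha hd hu := by
  rw [toProj, toProj, ← Proj.SpecMap_awayMap_awayι 𝒜 ha hd hc hx, ← Spec.map_comp_assoc,
    ← CommRingCat.ofHom_comp, theta_awayMap ev hu ha hc hx hux]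

theorem toProj_congr (V : X.Opens) (ev : A →+* Γ(X, V)) {a a' : A} {d d' : ℕ} (ha : a ∈ 𝒜 d)
    (hd : 0 < d) (hu : IsUnit (ev a)) (h : a = a') (hdd : d = d') :
    toProj V ev ha hd hu = toProj V ev (h ▸ hdd ▸ ha : a' ∈ 𝒜 d') (hdd ▸ hd) (h ▸ hu) := by
  subst h; subst hdd; rfl

/-- Independence of the element. -/
theorem toProj_indep (V : X.Opens) (ev : A →+* Γ(X, V)) {a a' : A} {d d' : ℕ} (ha : a ∈ 𝒜 d)
    (hd : 0 < d) (hu : IsUnit (ev a)) (ha' : a' ∈ 𝒜 d') (hd' : 0 < d') (hu' : IsUnit (ev a')) :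
    toProj V ev ha hd hu = toProj V ev ha' hd' hu' := by
  have hux : IsUnit (ev (a * a')) := by rw [map_mul]; exact hu.mul hu'
  rw [← toProj_mul V ev ha hd hu ha' rfl hux, ← toProj_mul V ev ha' hd' hu' ha (mul_comm a a') hux]
  exact toProj_congr V ev _ _ _ rfl (add_comm _ _)

/-- Scaling invariance. -/
theorem toProj_scale (V : X.Opens) (ev ev' : A →+* Γ(X, V)) {a : A} {d : ℕ} (ha : a ∈ 𝒜 d)
    (hd : 0 < d) (hu : IsUnit (ev a)) (hu' : IsUnit (ev' a)) (u : Γ(X, V))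
    (hs : ∀ (n : ℕ) (b : A), b ∈ 𝒜 n → ev b = u ^ n * ev' b) :
    toProj V ev ha hd hu = toProj V ev' ha hd hu' := by
  rw [toProj, toProj, theta_scale ev hu ha ev' hu' u hs]

/-- Restriction to smaller opens. -/
theorem homOfLE_toProj {V V' : X.Opens} (h : V' ≤ V) (ev : A →+* Γ(X, V)) {a : A} {d : ℕ}
    (ha : a ∈ 𝒜 d) (hd : 0 < d) (hu : IsUnit (ev a)) (hu' : IsUnit (((ores h).comp ev) a)) :
    X.homOfLE h ≫ toProj V ev ha hd hu = toProj V' ((ores h).comp ev) ha hd hu' := by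
  rw [toProj, toProj, ← Category.assoc, ← Scheme.Opens.toSpecΓ_SpecMap_presheaf_map _ _ h,
    Category.assoc, ← theta_comp ev hu (ores h) ha hu', CommRingCat.ofHom_comp, Spec.map_comp,
    Category.assoc]
  rfl

/-- Compatibility with `Proj.map`. -/
theorem toProj_map {B τ : Type u} [CommRing B] [SetLike τ B] [AddSubgroupClass τ B] {ℬ : ℕ → τ}
    [GradedRing ℬ] (φ : ℬ →+*ᵍ 𝒜)
    (hφ : HomogeneousIdeal.irrelevant 𝒜 ≤ (HomogeneousIdeal.irrelevant ℬ).map φ) (V : X.Opens)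
    (ev : A →+* Γ(X, V)) {b : B} {d : ℕ}
    (hb : b ∈ ℬ d) (hd : 0 < d) (hu : IsUnit (ev (φ b)))
    (hu' : IsUnit ((ev.comp (φ : B →+* A)) b)) :
    toProj V ev (φ.map_mem hb) hd hu ≫ Proj.map φ hφ =
      toProj V (ev.comp (φ : B →+* A)) hb hd hu' := by
  rw [toProj, toProj, Category.assoc, Category.assoc]
  have h := Proj.awayι_comp_map φ hφ hd b hb
  refine (congrArg (fun t => V.toSpecΓ ≫ Spec.map (CommRingCat.ofHom (theta ev hu 𝒜)) ≫ t) h).trans ?_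
  rw [← Spec.map_comp_assoc, ← CommRingCat.ofHom_comp, theta_map ev φ hb hu hu']

/-- Compatibility with the structure morphism. -/
theorem toProj_toSpecZero (V : X.Opens) (ev : A →+* Γ(X, V)) {a : A} {d : ℕ} (ha : a ∈ 𝒜 d)
    (hd : 0 < d) (hu : IsUnit (ev a)) {R : Type u} [CommRing R] (c : R →+* 𝒜 0) (ρ : R →+* Γ(X, V))
    (hc : ∀ r, ev (c r : A) = ρ r) :
    toProj V ev ha hd hu ≫ Proj.toSpecZero 𝒜 ≫ Spec.map (CommRingCat.ofHom c) =
      V.toSpecΓ ≫ Spec.map (CommRingCat.ofHom ρ) := by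
  rw [toProj, Category.assoc, Category.assoc, Proj.awayι_toSpecZero_assoc, ← Spec.map_comp,
    ← Spec.map_comp, ← CommRingCat.ofHom_comp, ← CommRingCat.ofHom_comp]
  congr 3
  refine RingHom.ext fun r => ?_
  rw [RingHom.comp_apply, RingHom.comp_apply]
  exact (theta_fromZero ev hu (c r)).trans (hc r)

/-- Preimages of standard opens. -/
theorem toProj_preimage (V : X.Opens) (ev : A →+* Γ(X, V)) {a : A} {d : ℕ} (ha : a ∈ 𝒜 d)
    (hd : 0 < d) (hu : IsUnit (ev a)) {b : A} {e : ℕ} (hb : b ∈ 𝒜 e) (he : 0 < e) :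
    toProj V ev ha hd hu ⁻¹ᵁ Proj.basicOpen 𝒜 b = V.ι ⁻¹ᵁ X.basicOpen (ev b) := by
  rw [toProj, Scheme.Hom.comp_preimage, Scheme.Hom.comp_preimage,
    Proj.awayι_preimage_basicOpen 𝒜 ha hd hb he]
  have h1 : Spec.map (CommRingCat.ofHom (theta ev hu 𝒜)) ⁻¹ᵁ
      PrimeSpectrum.basicOpen (Away.isLocalizationElem ha hb) =
      PrimeSpectrum.basicOpen (theta ev hu 𝒜 (Away.isLocalizationElem ha hb)) := rfl
  erw [h1]
  rw [← V.toSpecΓ_preimage_basicOpen]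
  congr 1
  have h2 : theta ev hu 𝒜 (Away.isLocalizationElem ha hb) * ev a ^ e = ev b ^ d := by
    rw [Away.isLocalizationElem, theta_mk, map_pow]
  have h3 : PrimeSpectrum.basicOpen (theta ev hu 𝒜 (Away.isLocalizationElem ha hb)) =
      PrimeSpectrum.basicOpen (ev b ^ d) := by
    rw [← h2, PrimeSpectrum.basicOpen_mul]
    have h4 : PrimeSpectrum.basicOpen (ev a ^ e) = ⊤ := by
      refine top_le_iff.mp fun x _ => ?_
      intro hx
      exact x.2.ne_top (Ideal.eq_top_of_isUnit_mem _ hx (hu.pow e))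
    rw [h4, inf_top_eq]
  rw [h3, PrimeSpectrum.basicOpen_pow _ _ hd]

end K823.ProjMor
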