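import Groth.Agent.RelProj.K823.SecFam
import Groth.Agent.RelProj.K823.ProjMor
import Groth.Agent.RelProj.K823.GlueLE

/-!
# The morphism `q⁻¹ U ⟶ Proj` attached to `φ : E ⟶ q_* L`
-/

set_option autoImplicit false
universe u

open CategoryTheory CategoryTheory.Limits AlgebraicGeometry TopologicalSpace Opposite
open HomogeneousLocalization

noncomputable section

namespace K823.ChartMor

open Groth.Agent.Fdesc.LocGen Groth.Agent.Ega2.Nv Groth.Agent.Ega2.ExtCoeff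
open K823.SecRing K823.GrSub K823.GrLoc K823.SecFam K823.ToProj K823.ProjMor K43.VADef

variable {X Y : Scheme.{u}} (q : X ⟶ Y) {L : X.Modules} {E : Y.Modules}
  (φ : E ⟶ (Scheme.Modules.pushforward q).obj L) {U : Y.Opens}

/-- Evaluation of the graded ring at an index. -/
def ev (j : Idx L (q ⁻¹ᵁ U)) : AA q φ U →+* Γ(X, j.V) :=
  (evB j).comp ((Polynomial.evalRingHom 1).comp (ring (FF q φ U)).subtype)

theorem ev_of_mem (j : Idx L (q ⁻¹ᵁ U)) {n : ℕ} {f : AA q φ U} (hf : f ∈ GG q φ U n) :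
    ev q φ j f = f.1.coeff n j := by
  rw [eq_mon_of_mem _ hf]
  change evB j (Polynomial.eval 1 (Polynomial.monomial n _)) = _
  rw [Polynomial.eval_monomial, one_pow, mul_one, evB_apply, coe_mon, Polynomial.coeff_monomial,
    if_pos rfl]

theorem ev_rr {V : Y.Opens} (h : V ≤ U) (j : Idx L (q ⁻¹ᵁ V)) (f : AA q φ U) :
    ev q φ j (rr q φ h f) = ev q φ (j.up (q.preimage_mono h)) f := by
  change evB j (Polynomial.eval 1 (f.1.map (bres (q.preimage_mono h)))) =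
    evB (j.up (q.preimage_mono h)) (Polynomial.eval 1 f.1)
  rw [Polynomial.eval_one_map]
  rfl

theorem ores_ev {j j' : Idx L (q ⁻¹ᵁ U)} (h : j'.V ≤ j.V) (u : Γ(X, j'.V))
    (hu : j'.g = u • res L h j.g) {n : ℕ} {f : AA q φ U} (hf : f ∈ GG q φ U n) :
    ores h (ev q φ j f) = u ^ n * ev q φ j' f := by
  rw [ev_of_mem q φ j hf, ev_of_mem q φ j' hf]
  exact coeff_mem_compat q φ f n j j' h u hu

/-- The degree-one element attached to a section. -/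
def hat (e : Γ(E, U)) : AA q φ U := mon (FF q φ U) 1 (κ q φ U e) (κ_mem _ _ e)

theorem hat_mem (e : Γ(E, U)) : hat q φ e ∈ GG q φ U 1 := mon_mem _ _ _ _

theorem ev_hat (j : Idx L (q ⁻¹ᵁ U)) (e : Γ(E, U)) : ev q φ j (hat q φ e) = crd (se q φ e) j := by
  rw [ev_of_mem q φ j (hat_mem q φ e), hat, coe_mon, Polynomial.coeff_monomial, if_pos rfl]
  rfl

theorem ev_cst (j : Idx L (q ⁻¹ᵁ U)) (a : Γ(Y, U)) :
    ev q φ j (cst (ρ q L U) (κ q φ U) a) = ores j.le (q.app U a) := by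
  change evB j (Polynomial.eval 1 (Polynomial.C (ρ q L U a))) = _
  rw [Polynomial.eval_C]
  rfl

theorem rr_hat {V : Y.Opens} (h : V ≤ U) (e : Γ(E, U)) :
    rr q φ h (hat q φ e) = hat q φ (res E h e) := by
  have := map_mon (FF q φ U) (FF q φ V) (bres (q.preimage_mono h))
    (map_mem_fam (ρ q L U) (κ q φ U) (ρ q L V) (κ q φ V) _ (ores h) (res E h) (bres_ρ q h)
      (bres_κ q φ h)) (κ_mem (ρ q L U) (κ q φ U) e)
  refine this.trans (Subtype.ext ?_)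
  rw [coe_mon, hat, coe_mon, bres_κ]

/-- The index of a section. -/
def idx (e : Γ(E, U)) : Idx L (q ⁻¹ᵁ U) :=
  ⟨nz q φ e, nz_le q φ e, res L (nz_le q φ e) (se q φ e), isGen_nz q φ e⟩

theorem ev_idx_hat (e : Γ(E, U)) : ev q φ (idx q φ e) (hat q φ e) = 1 := by
  rw [ev_hat]
  exact crd_eq (one_smul _ _).symm

theorem ev_idx_ratio (e t : Γ(E, U)) {a : Γ(X, nz q φ e)}
    (h : res L (nz_le q φ e) (se q φ t) = a • res L (nz_le q φ e) (se q φ e)) :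
    ev q φ (idx q φ e) (hat q φ t) = a := by
  rw [ev_hat]
  exact crd_eq h

theorem isUnit_ev_hat_iff (j : Idx L (q ⁻¹ᵁ U)) (e : Γ(E, U)) :
    X.basicOpen (ev q φ j (hat q φ e)) = j.V ⊓ nz q φ e := by
  rw [ev_hat]
  exact (nv_inf_of_eq_smul (se q φ e) j.le j.gen _ (crd_spec _ _)).symm

section piece

variable {A σ : Type u} [CommRing A] [SetLike σ A] [AddSubgroupClass σ A] (𝒜 : ℕ → σ)
  [GradedRing 𝒜] (Φ : A →+* AA q φ U)

/-- Evaluation at an index. -/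
abbrev evA (j : Idx L (q ⁻¹ᵁ U)) : A →+* Γ(X, j.V) := (ev q φ j).comp Φ

/-- An open mapping to `Proj`. -/
structure Piece where
  j : Idx L (q ⁻¹ᵁ U)
  d : ℕ
  a : A
  ha : a ∈ 𝒜 d
  hd : 0 < d
  hu : IsUnit (evA q φ Φ j a)

variable {𝒜} {Φ}

/-- The morphism of a piece. -/
def Piece.mor (P : Piece q φ 𝒜 Φ) : (P.j.V : Scheme.{u}) ⟶ Proj 𝒜 :=
  toProj P.j.V (evA q φ Φ P.j) P.ha P.hd P.hu

variable (hΦ : ∀ (d : ℕ) (a : A), a ∈ 𝒜 d → Φ a ∈ GG q φ U d)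

include hΦ

omit [AddSubgroupClass σ A] [GradedRing 𝒜] in
theorem isUnit_evA_sub {j j' : Idx L (q ⁻¹ᵁ U)} (h : j'.V ≤ j.V) {u : Γ(X, j'.V)}
    (hu : j'.g = u • res L h j.g) {d : ℕ} {a : A} (ha : a ∈ 𝒜 d)
    (hj : IsUnit (evA q φ Φ j a)) : IsUnit (evA q φ Φ j' a) := by
  have h1 := hj.map (ores h)
  rw [evA, RingHom.comp_apply, ores_ev q φ h u hu (hΦ d a ha)] at h1
  exact isUnit_of_mul_isUnit_right h1

/-- Change of index. -/
theorem homOfLE_toProj_idx {j j' : Idx L (q ⁻¹ᵁ U)} (h : j'.V ≤ j.V) {u : Γ(X, j'.V)}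
    (hu : j'.g = u • res L h j.g) {d : ℕ} {a : A} (ha : a ∈ 𝒜 d) (hd : 0 < d)
    (hj : IsUnit (evA q φ Φ j a)) (hj' : IsUnit (evA q φ Φ j' a)) :
    X.homOfLE h ≫ toProj j.V (evA q φ Φ j) ha hd hj = toProj j'.V (evA q φ Φ j') ha hd hj' := by
  have h1 : IsUnit (((ores h).comp (evA q φ Φ j)) a) := hj.map (ores h)
  rw [homOfLE_toProj h _ ha hd hj h1]
  refine toProj_scale _ _ _ ha hd h1 hj' u fun n b hb => ?_
  exact ores_ev q φ h u hu (hΦ n b hb)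

/-- The morphisms of two pieces agree on the overlap. -/
theorem Piece.compat (P P' : Piece q φ 𝒜 Φ) :
    X.homOfLE (inf_le_left : P.j.V ⊓ P'.j.V ≤ P.j.V) ≫ P.mor =
      X.homOfLE (inf_le_right : P.j.V ⊓ P'.j.V ≤ P'.j.V) ≫ P'.mor := by
  let j := P.j.sub (P.j.V ⊓ P'.j.V) inf_le_left
  have h1 : j.g = (1 : Γ(X, P.j.V ⊓ P'.j.V)) • res L (inf_le_left : P.j.V ⊓ P'.j.V ≤ P.j.V) P.j.g :=
    (one_smul Γ(X, P.j.V ⊓ P'.j.V) (res L (inf_le_left : P.j.V ⊓ P'.j.V ≤ P.j.V) P.j.g)).symm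
  obtain ⟨u, -, hu⟩ := (P'.j.gen.res (inf_le_right : P.j.V ⊓ P'.j.V ≤ P'.j.V)).exists_unit
    (P.j.gen.res (inf_le_left : P.j.V ⊓ P'.j.V ≤ P.j.V))
  have h2 : j.g = u • res L (inf_le_right : P.j.V ⊓ P'.j.V ≤ P'.j.V) P'.j.g := hu
  have i1 := isUnit_evA_sub q φ hΦ (j' := j) inf_le_left h1 P.ha P.hu
  have i2 := isUnit_evA_sub q φ hΦ (j' := j) inf_le_right h2 P'.ha P'.hu
  have e1 := homOfLE_toProj_idx q φ hΦ (j' := j) inf_le_left h1 P.ha P.hd P.hu i1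
  have e2 := homOfLE_toProj_idx q φ hΦ (j' := j) inf_le_right h2 P'.ha P'.hd P'.hu i2
  exact e1.trans ((toProj_indep _ _ _ _ _ _ _ _).trans e2.symm)

theorem exists_mor (hcov : ∀ x ∈ q ⁻¹ᵁ U, ∃ P : Piece q φ 𝒜 Φ, x ∈ P.j.V) :
    ∃ r : ((q ⁻¹ᵁ U : X.Opens) : Scheme.{u}) ⟶ Proj 𝒜, ∀ P : Piece q φ 𝒜 Φ,
      X.homOfLE P.j.le ≫ r = P.mor :=
  GlueLE.exists_glue (fun P : Piece q φ 𝒜 Φ => P.j.V) (fun P => P.j.le) hcov (fun P => P.mor)
    (Piece.compat q φ hΦ)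

end piece

end K823.ChartMor
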