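import Groth.Agent.RelProj.K823.PnImm
import Groth.Agent.Fdesc.LocGenPullback

/-!
# The coordinate sections of `i^* O(1)`
-/

set_option autoImplicit false
universe u

open CategoryTheory CategoryTheory.Limits AlgebraicGeometry TopologicalSpace Opposite

noncomputable section

namespace K823.CoordOf

open Groth.Agent.Fdesc.LocGen Groth.Agent.Ega2.Nv Groth.Agent.Ega2.ExtCoeff
open Groth.Agent.CurvesC.ProjSpaceBasic K823.PnImm

variable {X Y : Scheme.{u}}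

/-- The coordinate section of `O(1)`. -/
def tt (n : ℕ) (k : Fin (n + 1)) : Γ(Twist.twistProjSpace n (ULift.{u} ℤ) 1, ⊤) :=
  Groth.Agent.CurvesC.Gen.sec (T n (ULift.{u} ℤ) k) ⊤

theorem res_tt (n : ℕ) (k : Fin (n + 1)) (W : (CohB1.ProjSpace n (ULift.{u} ℤ)).Opens) :
    res _ (le_top : W ≤ ⊤) (tt.{u} n k) = Groth.Agent.CurvesC.Gen.sec (T n (ULift.{u} ℤ) k) W :=
  Groth.Agent.CurvesC.Gen.map_sec _ _

theorem isGen_tt (n : ℕ) (k : Fin (n + 1)) : IsGen (res _ (le_top : D.{u} n k ≤ ⊤) (tt.{u} n k)) := by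
  rw [res_tt]
  exact isGen_T n (ULift.{u} ℤ) k

theorem rel_tt (n : ℕ) (j k : Fin (n + 1)) : res _ (le_top : D.{u} n j ≤ ⊤) (tt.{u} n k) =
    ratio n (ULift.{u} ℤ) j k • res _ (le_top : D.{u} n j ≤ ⊤) (tt.{u} n j) := by
  rw [res_tt, res_tt]
  exact (ratio_smul n (ULift.{u} ℤ) j k).symm

theorem exists_coord {n : ℕ} {L : X.Modules} (i : X ⟶ CohB1.ProjSpaceOver n Y)
    (e : L ≅ (Scheme.Modules.pullback i).obj (Twist.twistOver n Y 1)) :
    ∃ s : Fin (n + 1) → Γ(L, ⊤), IsCoord (i ≫ pr n Y) s := by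
  let s : Fin (n + 1) → Γ(L, ⊤) := fun k => e.inv.app ⊤ (pullSec i (pullSec (pr n Y) (tt.{u} n k)))
  have hres : ∀ (k : Fin (n + 1)) (V : (CohB1.ProjSpace n (ULift.{u} ℤ)).Opens),
      res L (le_top : (i ≫ pr n Y) ⁻¹ᵁ V ≤ ⊤) (s k) =
        e.inv.app ((i ≫ pr n Y) ⁻¹ᵁ V) (pullSec i (pullSec (pr n Y)
          (res _ (le_top : V ≤ ⊤) (tt.{u} n k)))) := by
    intro k V
    have h1 := app_res e.inv (le_top : (i ≫ pr n Y) ⁻¹ᵁ V ≤ ⊤) (pullSec i (pullSec (pr n Y) (tt.{u} n k)))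
    refine h1.symm.trans ?_
    congr 1
    have h2 := res_pullSec i ((pr n Y).preimage_mono (le_top : V ≤ ⊤)) (pullSec (pr n Y) (tt.{u} n k))
    refine h2.trans ?_
    rw [res_pullSec (pr n Y) (le_top : V ≤ ⊤)]
  refine ⟨s, ⟨fun k => ?_, fun j k => ?_⟩⟩
  · rw [hres]
    exact (((isGen_tt n k).pullSec (pr n Y)).pullSec i).app e.inv
  · rw [hres, hres, rel_tt, pullSec_smul, pullSec_smul]
    have h3 := Scheme.Modules.Hom.app_smul e.inv
      (i.app ((pr n Y) ⁻¹ᵁ D n j) ((pr n Y).app (D n j) (ratio n (ULift.{u} ℤ) j k)))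
      (pullSec i (pullSec (pr n Y) (res _ (le_top : D n j ≤ ⊤) (tt.{u} n j))))
    refine h3.trans ?_
    congr 1

end K823.CoordOf
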