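import Groth.Agent.EGA2.K43.VADef
import Groth.Agent.CohqA.HBiprod
import Groth.Agent.Fdesc.StructMod

/-!
# The morphism `O_Y^{n+1} ⟶ q_* L` given by sections
-/

set_option autoImplicit false
universe u

open CategoryTheory CategoryTheory.Limits AlgebraicGeometry TopologicalSpace Opposite

noncomputable section

namespace K823.FreeSec

open Groth.Agent.Fdesc.LocGen Groth.Agent.Ega2.Nv Groth.Agent.Ega2.ExtCoeff K43.HomImm K43.VADef
open Groth.Agent.CohqA.HBiprod

attribute [local instance] Abelian.hasFiniteBiproducts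

variable {X Y : Scheme.{u}} (q : X ⟶ Y) {L : X.Modules} {n : ℕ} (s : Fin n → Γ(L, ⊤))

/-- The free module. -/
def EE (Y : Scheme.{u}) (n : ℕ) : Y.Modules := ⨁ fun _ : Fin n => Coh.structureModule Y

/-- The section `s k` as a section of the direct image. -/
def sY (k : Fin n) : Γ((Scheme.Modules.pushforward q).obj L, ⊤) := s k

/-- The morphism given by the sections. -/
def φ : EE Y n ⟶ (Scheme.Modules.pushforward q).obj L :=
  biproduct.desc fun k => homOf (sY q s k)

/-- The basis sections. -/
def e (k : Fin n) (U : Y.Opens) : Γ(EE Y n, U) :=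
  (biproduct.ι (fun _ : Fin n => Coh.structureModule Y) k).app U (one U)

theorem se_e (k : Fin n) (U : Y.Opens) : se q (φ q s) (e k U) = res L le_top (s k) := by
  have h1 : (biproduct.ι (fun _ : Fin n => Coh.structureModule Y) k) ≫ φ q s = homOf (sY q s k) :=
    biproduct.ι_desc _ _
  have h2 : (φ q s).app U (e k U) = (homOf (sY q s k)).app U (one U) := by
    rw [← h1]; rfl
  refine h2.trans ?_
  exact sec_homOf (sY q s k) U

theorem isQCoh_EE : Coh.IsQCoh (EE Y n) := by
  exact isQCoh_biproduct _ fun _ => Groth.Agent.Fdesc.StructMod.isQCoh_structureModule Y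

theorem finite_EE (U : Y.Opens) : Module.Finite Γ(Y, U) Γ(EE Y n, U) := by
  classical
  refine ⟨⟨Finset.univ.image (fun k => e k U), ?_⟩⟩
  rw [eq_top_iff]
  intro x _
  rw [eq_sum (fun _ : Fin n => Coh.structureModule Y) U x]
  refine sum_mem fun k _ => ?_
  obtain ⟨a, ha⟩ := (ofFun (X := Y) (U := U)).surjective
    ((biproduct.π (fun _ : Fin n => Coh.structureModule Y) k).app U x)
  rw [← ha, ofFun_eq_smul, Scheme.Modules.Hom.app_smul]
  exact Submodule.smul_mem _ _ (Submodule.subset_span (Finset.mem_coe.mpr (Finset.mem_image.mpr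
    ⟨k, Finset.mem_univ _, rfl⟩)))

end K823.FreeSec
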