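import Groth.Agent.RelProj.K823.AffData

/-!
# Quasi-coherent graded algebras from affine-local data

`Data S`: an `AffAlg S` with gradings over the affine opens; `Data.alg : RelProj.QCGrAlg S`.
-/

set_option autoImplicit false
universe u

open CategoryTheory CategoryTheory.Limits AlgebraicGeometry TopologicalSpace Opposite

noncomputable section

namespace K823.GrData

open K823.AffData

section transport

variable {A B : Type*} [CommRing A] [CommRing B] (e : A ≃+* B) (ℬ : ℕ → AddSubgroup B) [GradedRing ℬ]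

/-- Transport of a grading along a ring isomorphism. -/
def comapGr (d : ℕ) : AddSubgroup A := (ℬ d).comap (e : A →+ B)

omit [GradedRing ℬ] in
theorem mem_comapGr {d : ℕ} {a : A} : a ∈ comapGr e ℬ d ↔ e a ∈ ℬ d := Iff.rfl

/-- additive equivalence of graded pieces -/
def comapEquiv (d : ℕ) : comapGr e ℬ d ≃+ ℬ d where
  toFun a := ⟨e a, a.2⟩
  invFun b := ⟨e.symm b, by rw [mem_comapGr]; simp⟩
  left_inv a := by simp
  right_inv b := by simp
  map_add' a b := by ext; simp

instance gradedRing_comapGr : GradedRing (comapGr e ℬ) where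
  one_mem := by rw [mem_comapGr, map_one]; exact SetLike.GradedOne.one_mem
  mul_mem i j a b ha hb := by
    rw [mem_comapGr, map_mul]
    exact SetLike.GradedMul.mul_mem ha hb
  decompose' a := DirectSum.map (fun d => ((comapEquiv e ℬ d).symm : ℬ d →+ comapGr e ℬ d))
    (DirectSum.decompose ℬ (e a))
  left_inv a := by
    apply e.injective
    have h : ∀ x : DirectSum ℕ fun i => ℬ i,
        e (DirectSum.coeAddMonoidHom (comapGr e ℬ)
          (DirectSum.map (fun d => ((comapEquiv e ℬ d).symm : ℬ d →+ comapGr e ℬ d)) x)) =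
          DirectSum.coeAddMonoidHom ℬ x := by
      intro x
      induction x using DirectSum.induction_on with
      | zero => simp
      | of i x =>
        rw [DirectSum.map_of, DirectSum.coeAddMonoidHom_of, DirectSum.coeAddMonoidHom_of]
        exact e.apply_symm_apply _
      | add x y hx hy => simp only [map_add, hx, hy]
    rw [h]
    exact DirectSum.Decomposition.left_inv (e a)
  right_inv x := by
    induction x using DirectSum.induction_on with
    | zero => simp
    | of i x =>
      rw [DirectSum.coeAddMonoidHom_of]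
      change DirectSum.map _ (DirectSum.decompose ℬ (e (x : A))) = _
      rw [DirectSum.decompose_of_mem ℬ ((mem_comapGr e ℬ).mp x.2), DirectSum.map_of]
      congr 1
      ext
      exact e.symm_apply_apply _
    | add x y hx hy =>
      simp only [map_add, DirectSum.decompose_add] at hx hy ⊢
      rw [hx, hy]

end transport

/-- Affine-local data for a quasi-coherent graded algebra. -/
structure Data (S : Scheme.{u}) extends AffAlg S where
  deg : ∀ (U : S.Opens) (hU : IsAffineOpen U), ℕ → AddSubgroup (toAffAlg.A U hU)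
  graded : ∀ (U : S.Opens) (hU : IsAffineOpen U), GradedRing (deg U hU)
  map_mem : ∀ {U V : S.Opens} (hU : IsAffineOpen U) (hV : IsAffineOpen V)
    (i : mkA V hV ≤ mkA U hU) {d : ℕ} {x : toAffAlg.A U hU}, x ∈ deg U hU d →
    (toAffAlg.res hU hV i).hom x ∈ deg V hV d
  str_mem : ∀ (U : S.Opens) (hU : IsAffineOpen U) (r : Γ(S, U)),
    (toAffAlg.str U hU).hom r ∈ deg U hU 0

namespace Data

variable {S : Scheme.{u}} (D : Data S)

instance (U : S.Opens) (hU : IsAffineOpen U) : GradedRing (D.deg U hU) := D.graded U hU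

/-- The comparison over an affine open as a ring isomorphism. -/
def eqv (U : S.Opens) (hU : IsAffineOpen U) : Γ(D.spec, D.π ⁻¹ᵁ U) ≃+* D.A U hU :=
  (asIso (D.gammaAff U hU)).commRingCatIsoToRingEquiv

theorem eqv_apply (U : S.Opens) (hU : IsAffineOpen U) (x : Γ(D.spec, D.π ⁻¹ᵁ U)) :
    D.eqv U hU x = (D.gammaAff U hU).hom x := rfl

theorem eqv_res {U V : S.Opens} (hU : IsAffineOpen U) (hV : IsAffineOpen V)
    (i : mkA V hV ≤ mkA U hU) (j : V ≤ U) (x : Γ(D.spec, D.π ⁻¹ᵁ U)) :
    D.eqv V hV ((D.spec.presheaf.map (homOfLE (D.π.preimage_mono j)).op).hom x) =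
      (D.res hU hV i).hom (D.eqv U hU x) :=
  congrArg (fun f => f.hom x) (D.gammaAff_naturality hU hV i j)

theorem eqv_str (U : S.Opens) (hU : IsAffineOpen U) (r : Γ(S, U)) :
    D.eqv U hU ((D.π.app U).hom r) = (D.str U hU).hom r :=
  congrArg (fun f => f.hom r) (D.str_gammaAff U hU)

/-- The grading over an affine open. -/
def gr (U : S.Opens) (hU : IsAffineOpen U) : ℕ → AddSubgroup Γ(D.spec, D.π ⁻¹ᵁ U) :=
  comapGr (D.eqv U hU) (D.deg U hU)

instance (U : S.Opens) (hU : IsAffineOpen U) : GradedRing (D.gr U hU) :=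
  gradedRing_comapGr (D.eqv U hU) (D.deg U hU)

theorem mem_gr {U : S.Opens} {hU : IsAffineOpen U} {d : ℕ} {x : Γ(D.spec, D.π ⁻¹ᵁ U)} :
    x ∈ D.gr U hU d ↔ D.eqv U hU x ∈ D.deg U hU d := Iff.rfl

theorem map_mem_basic {U V : S.Opens} (hU : IsAffineOpen U) (hV : IsAffineOpen V)
    (i : mkA V hV ≤ mkA U hU) (j : V ≤ U) {d : ℕ} {x : Γ(D.spec, D.π ⁻¹ᵁ U)}
    (hx : x ∈ D.gr U hU d) :
    (D.spec.presheaf.map (homOfLE (D.π.preimage_mono j)).op).hom x ∈ D.gr V hV d := by
  rw [mem_gr, D.eqv_res hU hV i j]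
  exact D.map_mem hU hV i hx

theorem map_mem_gr {U V : S.Opens} (hU : IsAffineOpen U) (hV : IsAffineOpen V) (j : V ≤ U)
    {d : ℕ} {x : Γ(D.spec, D.π ⁻¹ᵁ U)} (hx : x ∈ D.gr U hU d) :
    (D.spec.presheaf.map (homOfLE (D.π.preimage_mono j)).op).hom x ∈ D.gr V hV d := by
  set y := (D.spec.presheaf.map (homOfLE (D.π.preimage_mono j)).op).hom x with hy
  -- components in other degrees vanish
  have key : ∀ k, k ≠ d → (DirectSum.decompose (D.gr V hV) y k : Γ(D.spec, D.π ⁻¹ᵁ V)) = 0 := by
    intro k hk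
    -- cover of V by opens basic in both
    have hcov : ∀ z : V, ∃ (f : Γ(S, U)) (g : Γ(S, V)), S.basicOpen f = S.basicOpen g ∧
        (z : S) ∈ S.basicOpen g := by
      intro z
      obtain ⟨f, g, hfg, hz⟩ := exists_basicOpen_le_affine_inter hU hV z ⟨j z.2, z.2⟩
      exact ⟨f, g, hfg, hfg ▸ hz⟩
    choose f g hfg hz using hcov
    let W : V → D.spec.Opens := fun z => D.π ⁻¹ᵁ (S.basicOpen (g z))
    have hW : ∀ z, W z ≤ D.π ⁻¹ᵁ V := fun z => D.π.preimage_mono (S.basicOpen_le _)
    have hcover : D.π ⁻¹ᵁ V ≤ ⨆ z, W z := by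
      intro p hp
      rw [Opens.mem_iSup]
      exact ⟨⟨D.π p, hp⟩, hz ⟨D.π p, hp⟩⟩
    refine TopCat.Sheaf.eq_of_locally_eq' D.spec.sheaf W (D.π ⁻¹ᵁ V)
      (fun z => homOfLE (hW z)) hcover _ _ ?_
    intro z
    change (D.spec.presheaf.map (homOfLE (hW z)).op).hom _ =
      (D.spec.presheaf.map (homOfLE (hW z)).op).hom 0
    rw [map_zero]
    have hgr : ∀ (m : ℕ) (w : Γ(D.spec, D.π ⁻¹ᵁ V)), w ∈ D.gr V hV m →
        (D.spec.presheaf.map (homOfLE (hW z)).op).hom w ∈
          D.gr (S.basicOpen (g z)) (hV.basicOpen (g z)) m := fun m w hw =>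
      D.map_mem_basic hV (hV.basicOpen (g z)) ⟨g z, rfl⟩ (S.basicOpen_le _) hw
    let φ : (D.gr V hV) →+*ᵍ (D.gr (S.basicOpen (g z)) (hV.basicOpen (g z))) :=
      { (D.spec.presheaf.map (homOfLE (hW z)).op).hom with map_mem := fun {m w} hw => hgr m w hw }
    have h1 : (D.spec.presheaf.map (homOfLE (hW z)).op).hom
        (DirectSum.decompose (D.gr V hV) y k : Γ(D.spec, D.π ⁻¹ᵁ V)) =
        (DirectSum.decompose (D.gr (S.basicOpen (g z)) (hV.basicOpen (g z)))
          ((D.spec.presheaf.map (homOfLE (hW z)).op).hom y) k : Γ(D.spec, _)) :=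
      GradedRingHom.map_directSumDecompose (f := φ) (x := y) (i := k)
    rw [h1]
    have h2 : (D.spec.presheaf.map (homOfLE (hW z)).op).hom y ∈
        D.gr (S.basicOpen (g z)) (hV.basicOpen (g z)) d := by
      have h3 : (D.spec.presheaf.map (homOfLE (hW z)).op).hom y =
          (D.spec.presheaf.map (homOfLE ((hW z).trans (D.π.preimage_mono j))).op).hom x := by
        rw [hy]
        have := congrArg (fun f => f.hom x) (D.spec.presheaf.map_comp
          (homOfLE (D.π.preimage_mono j)).op (homOfLE (hW z)).op)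
        exact this.symm
      rw [h3]
      exact D.map_mem_basic hU (hV.basicOpen (g z)) ⟨f z, hfg z⟩
        ((S.basicOpen_le _).trans j) hx
    rw [DirectSum.decompose_of_mem_ne _ h2 (Ne.symm hk)]
  have h5 : y = (DirectSum.decompose (D.gr V hV) y d : Γ(D.spec, D.π ⁻¹ᵁ V)) := by
    classical
    conv_lhs => rw [← DirectSum.sum_support_decompose (D.gr V hV) y]
    by_cases hd : d ∈ (DirectSum.decompose (D.gr V hV) y).support
    · rw [Finset.sum_eq_single d]
      · intro k _ hk; exact key k hk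
      · intro h; exact absurd hd h
    · rw [Finset.sum_eq_zero]
      · rw [DFinsupp.notMem_support_iff] at hd
        rw [hd]; rfl
      · intro k hk
        exact key k (fun h => hd (h ▸ hk))
  rw [h5]
  exact SetLike.coe_mem _

/-- The quasi-coherent graded algebra attached to affine-local data. -/
def alg : RelProj.QCGrAlg S where
  toQCAlg := D.toAffAlg.alg
  deg := D.gr
  graded U hU := gradedRing_comapGr (D.eqv U hU) (D.deg U hU)
  map_mem hU hV j _ _ hx := D.map_mem_gr hU hV j hx
  str_mem U hU r := by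
    change (D.π.app U).hom r ∈ D.gr U hU 0
    rw [mem_gr, eqv_str]
    exact D.str_mem U hU r

end Data

end K823.GrData
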