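import Groth.Agent.RelProj.K823.GrSub

/-!
# The graded ring generated by constants and degree-one elements

`fam ρ κ`: for `ρ : R →+* B` and `κ : E → B`, the family `I n` of additive subgroups generated by the products
`ρ r * κ e₁ * … * κ eₙ`.  Functoriality and localization of `GrSub.ring (fam ρ κ)`.
-/

set_option autoImplicit false
universe u v

namespace K823.GrLoc

open Polynomial K823.GrSub

noncomputable section

variable {B : Type u} [CommRing B] {R : Type u} [CommRing R] {E : Type u}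

/-- Generators in degree `n`. -/
def gens (ρ : R →+* B) (κ : E → B) (n : ℕ) : Set B :=
  {x | ∃ (r : R) (l : List E), l.length = n ∧ x = ρ r * (l.map κ).prod}

/-- The family generated by constants and degree-one elements. -/
def fam (ρ : R →+* B) (κ : E → B) : Fam B where
  I n := AddSubgroup.closure (gens ρ κ n)
  one_mem := AddSubgroup.subset_closure ⟨1, [], rfl, by simp⟩
  mul_mem {m n a b} ha hb := by
    induction ha using AddSubgroup.closure_induction with
    | mem a ha =>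
      induction hb using AddSubgroup.closure_induction with
      | mem b hb =>
        obtain ⟨r, l, hl, rfl⟩ := ha
        obtain ⟨r', l', hl', rfl⟩ := hb
        refine AddSubgroup.subset_closure ⟨r * r', l ++ l', by rw [List.length_append, hl, hl'], ?_⟩
        rw [map_mul, List.map_append, List.prod_append]
        ring
      | zero => rw [mul_zero]; exact zero_mem _
      | add x y _ _ hx hy => rw [mul_add]; exact add_mem hx hy
      | neg x _ hx => rw [mul_neg]; exact neg_mem hx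
    | zero => rw [zero_mul]; exact zero_mem _
    | add x y _ _ hx hy => rw [add_mul]; exact add_mem hx hy
    | neg x _ hx => rw [neg_mul]; exact neg_mem hx

variable (ρ : R →+* B) (κ : E → B)

theorem mem_zero_iff {x : B} : x ∈ (fam ρ κ).I 0 ↔ ∃ r, x = ρ r := by
  constructor
  · intro hx
    change x ∈ AddSubgroup.closure (gens ρ κ 0) at hx
    induction hx using AddSubgroup.closure_induction with
    | mem x hx =>
      obtain ⟨r, l, hl, rfl⟩ := hx
      obtain rfl := List.length_eq_zero_iff.mp hl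
      exact ⟨r, by simp⟩
    | zero => exact ⟨0, by simp⟩
    | add x y _ _ hx hy =>
      obtain ⟨r, rfl⟩ := hx
      obtain ⟨s, rfl⟩ := hy
      exact ⟨r + s, by simp⟩
    | neg x _ hx =>
      obtain ⟨r, rfl⟩ := hx
      exact ⟨-r, by simp⟩
  · rintro ⟨r, rfl⟩
    exact AddSubgroup.subset_closure ⟨r, [], rfl, by simp⟩

theorem const_mem_fam (r : R) : ρ r ∈ (fam ρ κ).I 0 := (mem_zero_iff ρ κ).mpr ⟨r, rfl⟩

theorem κ_mem (e : E) : κ e ∈ (fam ρ κ).I 1 :=
  AddSubgroup.subset_closure ⟨1, [e], rfl, by simp⟩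

theorem mem_one_iff [AddCommGroup E] [Module R E] (hadd : ∀ e e' : E, κ (e + e') = κ e + κ e')
    (hsmul : ∀ (r : R) (e : E), κ (r • e) = ρ r * κ e) {x : B} :
    x ∈ (fam ρ κ).I 1 ↔ ∃ e, x = κ e := by
  constructor
  · intro hx
    change x ∈ AddSubgroup.closure (gens ρ κ 1) at hx
    induction hx using AddSubgroup.closure_induction with
    | mem x hx =>
      obtain ⟨r, l, hl, rfl⟩ := hx
      obtain ⟨e, rfl⟩ := List.length_eq_one_iff.mp hl
      exact ⟨r • e, by simp [hsmul]⟩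
    | zero =>
      refine ⟨0, ?_⟩
      have := hsmul 0 0
      rw [zero_smul, map_zero, zero_mul] at this
      exact this.symm
    | add x y _ _ hx hy =>
      obtain ⟨r, rfl⟩ := hx
      obtain ⟨s, rfl⟩ := hy
      exact ⟨r + s, by rw [hadd]⟩
    | neg x _ hx =>
      obtain ⟨r, rfl⟩ := hx
      refine ⟨-r, ?_⟩
      have := hsmul (-1) r
      rw [neg_one_smul, map_neg, map_one] at this
      rw [this, neg_mul, one_mul]
  · rintro ⟨e, rfl⟩
    exact κ_mem ρ κ e

/-- Induction for the degree `n` part. -/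
theorem le_of_gens {n : ℕ} (P : AddSubgroup B) (h : ∀ (r : R) (l : List E), l.length = n →
    ρ r * (l.map κ).prod ∈ P) : (fam ρ κ).I n ≤ P :=
  (AddSubgroup.closure_le P).mpr (by rintro x ⟨r, l, hl, rfl⟩; exact h r l hl)

section functoriality

variable {B' : Type u} [CommRing B'] {R' : Type u} [CommRing R'] {E' : Type u}
  (ρ' : R' →+* B') (κ' : E' → B') (φ : B →+* B') (ψ : R →+* R') (χ : E → E')
  (h0 : ∀ r, φ (ρ r) = ρ' (ψ r)) (h1 : ∀ e, φ (κ e) = κ' (χ e))

include h0 h1 in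
theorem map_mem_fam (n : ℕ) (x : B) (hx : x ∈ (fam ρ κ).I n) : φ x ∈ (fam ρ' κ').I n := by
  revert x
  change (fam ρ κ).I n ≤ ((fam ρ' κ').I n).comap (φ : B →+ B')
  refine le_of_gens ρ κ _ fun r l hl => ?_
  refine AddSubgroup.subset_closure ⟨ψ r, l.map χ, by rw [List.length_map, hl], ?_⟩
  change φ (ρ r * (l.map κ).prod) = _
  rw [map_mul, h0, map_list_prod, List.map_map, List.map_map]
  congr 3
  exact funext h1

/-- The induced homomorphism. -/
def famMap : gr (fam ρ κ) →+*ᵍ gr (fam ρ' κ') :=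
  GrSub.map (fam ρ κ) (fam ρ' κ') φ (map_mem_fam ρ κ ρ' κ' φ ψ χ h0 h1)

/-- The structure map. -/
def cst : R →+* ring (fam ρ κ) := const (fam ρ κ) ρ (const_mem_fam ρ κ)

theorem coe_cst (r : R) : (cst ρ κ r : B[X]) = C (ρ r) := rfl

theorem cst_mem (r : R) : cst ρ κ r ∈ gr (fam ρ κ) 0 := const_mem (fam ρ κ) ρ _ r

theorem famMap_cst (r : R) : famMap ρ κ ρ' κ' φ ψ χ h0 h1 (cst ρ κ r) = cst ρ' κ' (ψ r) := by
  apply Subtype.ext
  rw [famMap, coe_map, coe_cst, coe_cst, Polynomial.map_C, h0]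

theorem coeff_famMap (f : ring (fam ρ κ)) (n : ℕ) :
    (famMap ρ κ ρ' κ' φ ψ χ h0 h1 f : B'[X]).coeff n = φ ((f : B[X]).coeff n) :=
  coeff_map' _ _ _ _ f n

end functoriality

section localization

variable {B' : Type u} [CommRing B'] {R' : Type u} [CommRing R'] {E' : Type u}
  {ρ : R →+* B} {κ : E → B}
  {ρ' : R' →+* B'} {κ' : E' → B'} {φ : B →+* B'} {ψ : R →+* R'} {χ : E → E'}
  (h0 : ∀ r, φ (ρ r) = ρ' (ψ r)) (h1 : ∀ e, φ (κ e) = κ' (χ e)) (c : R)
  (hloc : ∀ r', ∃ (k : ℕ) (r : R), ρ' r' * φ (ρ c) ^ k = φ (ρ r))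
  (hlocE : ∀ e', ∃ (k : ℕ) (e : E), κ' e' * φ (ρ c) ^ k = φ (κ e))
  (hinj : ∀ (n : ℕ) (x : B), x ∈ (fam ρ κ).I n → φ x = 0 → ∃ k : ℕ, ρ c ^ k * x = 0)
  (hunit : IsUnit (ψ c))

include hloc hlocE in
theorem exists_lift_fam (n : ℕ) (x' : B') (hx' : x' ∈ (fam ρ' κ').I n) :
    ∃ (k : ℕ) (x : B), x ∈ (fam ρ κ).I n ∧ x' * φ (ρ c) ^ k = φ x := by
  have hρc : ∀ k : ℕ, ρ c ^ k ∈ (fam ρ κ).I 0 := fun k => by
    rw [← map_pow]; exact const_mem_fam ρ κ _
  have hmul : ∀ (k : ℕ) {x : B}, x ∈ (fam ρ κ).I n → ρ c ^ k * x ∈ (fam ρ κ).I n := fun k x hx => by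
    have := (fam ρ κ).mul_mem (hρc k) hx
    rwa [zero_add] at this
  change x' ∈ AddSubgroup.closure (gens ρ' κ' n) at hx'
  induction hx' using AddSubgroup.closure_induction with
  | mem x' hx' =>
    obtain ⟨r', l, hl, rfl⟩ := hx'
    induction l generalizing n with
    | nil =>
      obtain rfl : n = 0 := by simpa using hl.symm
      obtain ⟨k, r, hr⟩ := hloc r'
      exact ⟨k, ρ r, const_mem_fam ρ κ r, by simpa using hr⟩
    | cons e' l ih =>
      obtain ⟨m, rfl⟩ : ∃ m, n = m + 1 := ⟨l.length, by simpa using hl.symm⟩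
      obtain ⟨k, x, hx, hxx⟩ := ih m (fun k x hx => by
        have := (fam ρ κ).mul_mem (hρc k) hx
        rwa [zero_add] at this) (by simpa using hl)
      obtain ⟨k', e, he⟩ := hlocE e'
      refine ⟨k + k', x * κ e, (fam ρ κ).mul_mem hx (κ_mem ρ κ e), ?_⟩
      rw [List.map_cons, List.prod_cons, map_mul, ← hxx, ← he]
      ring
  | zero => exact ⟨0, 0, zero_mem _, by simp⟩
  | add x y _ _ hx hy =>
    obtain ⟨k, a, ha, hka⟩ := hx
    obtain ⟨k', b, hb, hkb⟩ := hy
    refine ⟨k + k', ρ c ^ k' * a + ρ c ^ k * b, add_mem (hmul _ ha) (hmul _ hb), ?_⟩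
    rw [map_add, map_mul, map_mul, ← hka, ← hkb, map_pow, map_pow]
    ring
  | neg x _ hx =>
    obtain ⟨k, a, ha, hka⟩ := hx
    exact ⟨k, -a, neg_mem ha, by rw [map_neg, ← hka, neg_mul]⟩

include hloc hlocE in
theorem exists_lift_ring (f' : ring (fam ρ' κ')) :
    ∃ (k : ℕ) (f : ring (fam ρ κ)), f' * famMap ρ κ ρ' κ' φ ψ χ h0 h1 (cst ρ κ c) ^ k =
      famMap ρ κ ρ' κ' φ ψ χ h0 h1 f := by
  classical
  suffices H : ∀ (s : Finset ℕ) (f' : ring (fam ρ' κ')), (f' : B'[X]).support ⊆ s →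
      ∃ (k : ℕ) (f : ring (fam ρ κ)), f' * famMap ρ κ ρ' κ' φ ψ χ h0 h1 (cst ρ κ c) ^ k =
      famMap ρ κ ρ' κ' φ ψ χ h0 h1 f from H _ f' subset_rfl
  intro s
  induction s using Finset.induction_on with
  | empty =>
    intro f' hf'
    have : f' = 0 := Subtype.ext (by simpa using hf')
    exact ⟨0, 0, by simp [this]⟩
  | insert n s hn ih =>
    intro f' hf'
    obtain ⟨k, x, hx, hxx⟩ := exists_lift_fam c hloc hlocE n _ (f'.2 n)
    let g' : ring (fam ρ' κ') := mon (fam ρ' κ') n ((f' : B'[X]).coeff n) (f'.2 n)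
    obtain ⟨k', f, hf⟩ := ih (f' - g') (by
      intro i hi
      have h2 : ((f' - g' : ring (fam ρ' κ')) : B'[X]).coeff i ≠ 0 := by simpa using hi
      rw [AddSubgroupClass.coe_sub, coeff_sub, coe_mon, coeff_monomial] at h2
      have hin : i ≠ n := by
        rintro rfl
        simp at h2
      rw [if_neg hin.symm, sub_zero] at h2
      have := hf' (mem_support_iff.mpr h2)
      exact (Finset.mem_insert.mp this).resolve_left hin)
    have hc : (famMap ρ κ ρ' κ' φ ψ χ h0 h1 (cst ρ κ c) : B'[X]) = C (φ (ρ c)) := by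
      rw [famMap_cst ρ κ ρ' κ' φ ψ χ h0 h1, coe_cst, h0]
    have hg : g' * famMap ρ κ ρ' κ' φ ψ χ h0 h1 (cst ρ κ c) ^ k =
        famMap ρ κ ρ' κ' φ ψ χ h0 h1 (mon (fam ρ κ) n x hx) := by
      have h5 : famMap ρ κ ρ' κ' φ ψ χ h0 h1 (mon (fam ρ κ) n x hx) =
          mon (fam ρ' κ') n (φ x) (map_mem_fam ρ κ ρ' κ' φ ψ χ h0 h1 n x hx) := map_mon _ _ _ _ hx
      apply Subtype.ext
      rw [h5]
      simp only [MulMemClass.coe_mul, SubmonoidClass.coe_pow]
      rw [hc, coe_mon, coe_mon, ← C_pow, monomial_mul_C, hxx]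
    refine ⟨k + k', cst ρ κ c ^ k * f + cst ρ κ c ^ k' * mon (fam ρ κ) n x hx, ?_⟩
    rw [map_add, map_mul, map_mul, ← hf, ← hg, map_pow, map_pow]
    ring

include hinj in
theorem exists_pow_mul_eq_zero (f : ring (fam ρ κ)) (hf : famMap ρ κ ρ' κ' φ ψ χ h0 h1 f = 0) :
    ∃ k : ℕ, cst ρ κ c ^ k * f = 0 := by
  classical
  have h2 : ∀ n, ∃ k : ℕ, ρ c ^ k * (f : B[X]).coeff n = 0 := fun n => hinj n _ (f.2 n) (by
    rw [← coeff_famMap ρ κ ρ' κ' φ ψ χ h0 h1, hf]; simp)
  choose k hk using h2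
  refine ⟨(f : B[X]).support.sup k, Subtype.ext (Polynomial.ext fun n => ?_)⟩
  simp only [MulMemClass.coe_mul, SubmonoidClass.coe_pow, ZeroMemClass.coe_zero, coeff_zero]
  rw [coe_cst, ← C_pow, coeff_C_mul]
  by_cases hn : n ∈ (f : B[X]).support
  · obtain ⟨m, hm⟩ := Nat.exists_eq_add_of_le (Finset.le_sup (f := k) hn)
    rw [hm, pow_add, mul_comm (ρ c ^ k n), mul_assoc, hk, mul_zero]
  · rw [notMem_support_iff.mp hn, mul_zero]

include hloc hlocE hinj hunit in
/-- Localization at a constant. -/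
theorem isLocalization : letI := (famMap ρ κ ρ' κ' φ ψ χ h0 h1 : ring (fam ρ κ) →+* ring (fam ρ' κ')).toAlgebra
    IsLocalization.Away (cst ρ κ c) (ring (fam ρ' κ')) := by
  let := (famMap ρ κ ρ' κ' φ ψ χ h0 h1 : ring (fam ρ κ) →+* ring (fam ρ' κ')).toAlgebra
  refine { map_units := ?_, surj := ?_, exists_of_eq := ?_ }
  · rintro ⟨_, k, rfl⟩
    have h3 : IsUnit (famMap ρ κ ρ' κ' φ ψ χ h0 h1 (cst ρ κ c)) := by
      rw [famMap_cst]
      exact hunit.map _
    have h4 := h3.pow k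
    rw [← map_pow] at h4
    exact h4
  · intro f'
    obtain ⟨k, f, hf⟩ := exists_lift_ring h0 h1 c hloc hlocE f'
    refine ⟨(f, ⟨cst ρ κ c ^ k, k, rfl⟩), ?_⟩
    change f' * famMap ρ κ ρ' κ' φ ψ χ h0 h1 (cst ρ κ c ^ k) = _
    rw [map_pow]
    exact hf
  · intro f g hfg
    have h3 : famMap ρ κ ρ' κ' φ ψ χ h0 h1 (f - g) = 0 := by
      rw [map_sub, sub_eq_zero]
      exact hfg
    obtain ⟨k, hk⟩ := exists_pow_mul_eq_zero h0 h1 c hinj (f - g) h3
    refine ⟨⟨cst ρ κ c ^ k, k, rfl⟩, ?_⟩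
    rw [mul_sub, sub_eq_zero] at hk
    exact hk

end localization

/-- Generation in degree one. -/
theorem closure_eq_top (ρ : R →+* B) (κ : E → B) :
    Subring.closure ((gr (fam ρ κ) 0 : Set (ring (fam ρ κ))) ∪ (gr (fam ρ κ) 1 : Set _)) = ⊤ := by
  classical
  set C₀ := Subring.closure ((gr (fam ρ κ) 0 : Set (ring (fam ρ κ))) ∪ (gr (fam ρ κ) 1 : Set _))
  have hmon : ∀ (n : ℕ) (x : B) (hx : x ∈ (fam ρ κ).I n), mon (fam ρ κ) n x hx ∈ C₀ := by
    intro n x hx
    have hx2 := hx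
    change x ∈ AddSubgroup.closure (gens ρ κ n) at hx2
    induction hx2 using AddSubgroup.closure_induction with
    | mem x hx' =>
      obtain ⟨r, l, hl, rfl⟩ := hx'
      have : mon (fam ρ κ) n _ hx = cst ρ κ r *
          (l.map (fun e => mon (fam ρ κ) 1 (κ e) (κ_mem ρ κ e))).prod := by
        apply Subtype.ext
        simp only [MulMemClass.coe_mul, coe_cst]
        rw [coe_mon, ← hl]
        clear hl hx
        have : ∀ l : List E, ((l.map (fun e => mon (fam ρ κ) 1 (κ e) (κ_mem ρ κ e))).prod : B[X]) =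
            monomial l.length (l.map κ).prod := by
          intro l
          induction l with
          | nil => simp
          | cons a l ih =>
            simp only [List.map_cons, List.prod_cons, MulMemClass.coe_mul, ih, coe_mon,
              List.length_cons]
            rw [monomial_mul_monomial, add_comm]
        rw [this, C_mul_monomial]
      rw [this]
      refine mul_mem (Subring.subset_closure (Or.inl (cst_mem ρ κ r))) (list_prod_mem ?_)
      intro y hy
      obtain ⟨e, -, rfl⟩ := List.mem_map.mp hy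
      exact Subring.subset_closure (Or.inr (mon_mem _ _ _ _))
    | zero =>
      have : mon (fam ρ κ) n 0 hx = 0 := Subtype.ext (by rw [coe_mon]; simp)
      rw [this]; exact zero_mem _
    | add x y hx' hy' ihx ihy =>
      have : mon (fam ρ κ) n (x + y) hx = mon (fam ρ κ) n x hx' + mon (fam ρ κ) n y hy' :=
        Subtype.ext (by simp only [AddMemClass.coe_add, coe_mon]; rw [map_add])
      rw [this]; exact add_mem (ihx hx') (ihy hy')
    | neg x hx' ihx =>
      have : mon (fam ρ κ) n (-x) hx = -mon (fam ρ κ) n x hx' :=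
        Subtype.ext (by simp only [NegMemClass.coe_neg, coe_mon]; rw [map_neg])
      rw [this]; exact neg_mem (ihx hx')
  rw [eq_top_iff]
  intro f _
  have : f = ∑ i ∈ (f : B[X]).support, mon (fam ρ κ) i ((f : B[X]).coeff i) (f.2 i) := by
    apply Subtype.ext
    rw [AddSubmonoidClass.coe_finsetSum]
    simp only [coe_mon]
    exact (f : B[X]).as_sum_support
  rw [this]
  exact sum_mem fun i _ => hmon _ _ _

end

end K823.GrLoc
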