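import Mathlib.Algebra.Polynomial.Basic
import Mathlib.Algebra.Polynomial.Coeff
import Mathlib.RingTheory.GradedAlgebra.Basic
import Mathlib.RingTheory.GradedAlgebra.HomogeneousLocalization
import Mathlib.RingTheory.GradedAlgebra.RingHom
import Mathlib.Algebra.Polynomial.Eval.Coeff
import Mathlib.RingTheory.Localization.Away.Basic

/-!
# Graded subrings of a polynomial ring `B[T]`

Given additive subgroups `I n` of `B` with `1 ∈ I 0` and `I m * I n ⊆ I (m + n)`, the subring
`GrSub I` of `B[T]` of the polynomials with `n`-th coefficient in `I n`, with its grading.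
-/

set_option autoImplicit false
universe u v

namespace K823.GrSub

open Polynomial

noncomputable section

variable {B : Type u} [CommRing B]

/-- A multiplicative family of additive subgroups. -/
structure Fam (B : Type u) [CommRing B] where
  I : ℕ → AddSubgroup B
  one_mem : (1 : B) ∈ I 0
  mul_mem : ∀ {m n : ℕ} {a b : B}, a ∈ I m → b ∈ I n → a * b ∈ I (m + n)

variable (F : Fam B)

/-- The graded subring. -/
def ring : Subring B[X] where
  carrier := {p | ∀ n, p.coeff n ∈ F.I n}
  one_mem' n := by
    rw [coeff_one]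
    split_ifs with h
    · subst h; exact F.one_mem
    · exact (F.I n).zero_mem
  zero_mem' n := by simp
  add_mem' {p q} hp hq n := by
    rw [coeff_add]; exact (F.I n).add_mem (hp n) (hq n)
  neg_mem' {p} hp n := by
    rw [coeff_neg]; exact (F.I n).neg_mem (hp n)
  mul_mem' {p q} hp hq n := by
    rw [coeff_mul]
    refine sum_mem fun ij hij => ?_
    rw [← Finset.mem_antidiagonal.mp hij]
    exact F.mul_mem (hp _) (hq _)

theorem mem_ring {p : B[X]} : p ∈ ring F ↔ ∀ n, p.coeff n ∈ F.I n := Iff.rfl

/-- The graded pieces. -/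
def gr (n : ℕ) : AddSubgroup (ring F) where
  carrier := {f | ∀ i, i ≠ n → (f : B[X]).coeff i = 0}
  add_mem' {f g} hf hg i hi := by simp [hf i hi, hg i hi]
  zero_mem' i hi := by simp
  neg_mem' {f} hf i hi := by simp [hf i hi]

theorem mem_gr {n : ℕ} {f : ring F} : f ∈ gr F n ↔ ∀ i, i ≠ n → (f : B[X]).coeff i = 0 := Iff.rfl

/-- The monomial `x T^n`. -/
def mon (n : ℕ) (x : B) (hx : x ∈ F.I n) : ring F :=
  ⟨monomial n x, fun i => by
    rw [coeff_monomial]
    split_ifs with h
    · subst h; exact hx
    · exact (F.I i).zero_mem⟩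

theorem coe_mon (n : ℕ) (x : B) (hx : x ∈ F.I n) : (mon F n x hx : B[X]) = monomial n x := rfl

theorem mon_mem (n : ℕ) (x : B) (hx : x ∈ F.I n) : mon F n x hx ∈ gr F n := by
  intro i hi
  rw [coe_mon, coeff_monomial, if_neg hi.symm]

theorem eq_mon_of_mem {n : ℕ} {f : ring F} (hf : f ∈ gr F n) :
    f = mon F n ((f : B[X]).coeff n) (f.2 n) := by
  ext i
  rw [coe_mon, coeff_monomial]
  split_ifs with h
  · rw [h]
  · exact hf i (Ne.symm h)

theorem mon_mul_mon {m n : ℕ} {x y : B} (hx : x ∈ F.I m) (hy : y ∈ F.I n) :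
    mon F m x hx * mon F n y hy = mon F (m + n) (x * y) (F.mul_mem hx hy) := by
  apply Subtype.ext
  simp [coe_mon, monomial_mul_monomial]

theorem pow_mem {n : ℕ} {x : B} (hx : x ∈ F.I n) (k : ℕ) : x ^ k ∈ F.I (n * k) := by
  induction k with
  | zero => simpa using F.one_mem
  | succ k ih => rw [pow_succ, Nat.mul_succ]; exact F.mul_mem ih hx

theorem mon_pow {n : ℕ} {x : B} (hx : x ∈ F.I n) (k : ℕ) :
    mon F n x hx ^ k = mon F (n * k) (x ^ k) (pow_mem F hx k) := by
  apply Subtype.ext
  simp [coe_mon, monomial_pow]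

theorem coeff_mem_of_mem {n : ℕ} {f : ring F} (_hf : f ∈ gr F n) : (f : B[X]).coeff n ∈ F.I n := f.2 n

/-- The decomposition map. -/
def decomp (f : ring F) : DirectSum ℕ fun i => gr F i :=
  ∑ i ∈ (f : B[X]).support, DirectSum.of (fun i => gr F i) i
    ⟨mon F i ((f : B[X]).coeff i) (f.2 i), mon_mem F i _ _⟩

theorem decomp_eq_sum_range (f : ring F) (s : Finset ℕ) (hs : (f : B[X]).support ⊆ s) :
    decomp F f = ∑ i ∈ s, DirectSum.of (fun i => gr F i) i
      ⟨mon F i ((f : B[X]).coeff i) (f.2 i), mon_mem F i _ _⟩ := by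
  refine Finset.sum_subset hs fun i _ hi => ?_
  have : (⟨mon F i ((f : B[X]).coeff i) (f.2 i), mon_mem F i _ _⟩ : gr F i) = 0 := by
    apply Subtype.ext
    apply Subtype.ext
    have : (f : B[X]).coeff i = 0 := by simpa using hi
    simp [coe_mon, this]
  rw [this, map_zero]

instance : GradedRing (gr F) where
  one_mem i hi := by
    simp [coeff_one, hi]
  mul_mem i j f g hf hg := by
    rw [eq_mon_of_mem F hf, eq_mon_of_mem F hg, mon_mul_mon]
    exact mon_mem F _ _ _
  decompose' := decomp F
  left_inv f := by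
    rw [decomp, map_sum]
    simp only [DirectSum.coeAddMonoidHom_of]
    apply Subtype.ext
    rw [AddSubmonoidClass.coe_finsetSum]
    simp only [coe_mon]
    exact (f : B[X]).as_sum_support.symm
  right_inv x := by
    classical
    induction x using DirectSum.induction_on with
    | zero => simp [decomp]
    | of i x =>
      rw [DirectSum.coeAddMonoidHom_of]
      obtain ⟨x, hx⟩ := x
      rw [decomp_eq_sum_range F x {i} ?_]
      · rw [Finset.sum_singleton]
        congr 1
        apply Subtype.ext
        exact (eq_mon_of_mem F hx).symm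
      · intro j hj
        by_contra h
        exact (mem_support_iff.mp hj) (hx j (by simpa using h))
    | add x y hx hy =>
      rw [map_add]
      conv_rhs => rw [← hx, ← hy]
      set f := DirectSum.coeAddMonoidHom (gr F) x
      set g := DirectSum.coeAddMonoidHom (gr F) y
      rw [decomp_eq_sum_range F (f + g) ((f : B[X]).support ∪ (g : B[X]).support)
          (by simpa using Polynomial.support_add (p := (f : B[X])) (q := (g : B[X]))),
        decomp_eq_sum_range F f ((f : B[X]).support ∪ (g : B[X]).support) Finset.subset_union_left,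
        decomp_eq_sum_range F g ((f : B[X]).support ∪ (g : B[X]).support) Finset.subset_union_right,
        ← Finset.sum_add_distrib]
      refine Finset.sum_congr rfl fun i _ => ?_
      rw [← map_add (DirectSum.of (fun i => gr F i) i)]
      congr 1
      apply Subtype.ext
      apply Subtype.ext
      simp [coe_mon]

section map

variable {B' : Type v} [CommRing B'] (F' : Fam B')

/-- Functoriality. -/
def map (φ : B →+* B') (h : ∀ n x, x ∈ F.I n → φ x ∈ F'.I n) : gr F →+*ᵍ gr F' :=
  { (((mapRingHom φ).comp (ring F).subtype).codRestrict (ring F') (fun f n => by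
      change (mapRingHom φ (f : B[X])).coeff n ∈ _
      rw [coe_mapRingHom, coeff_map]
      exact h n _ (f.2 n)) : ring F →+* ring F') with
    map_mem := by
      intro n f hf i hi
      change (mapRingHom φ (f : B[X])).coeff i = 0
      rw [coe_mapRingHom, coeff_map, hf i hi, map_zero] }

theorem coe_map (φ : B →+* B') (h : ∀ n x, x ∈ F.I n → φ x ∈ F'.I n) (f : ring F) :
    ((map F F' φ h f : ring F') : B'[X]) = (f : B[X]).map φ := rfl

theorem coeff_map' (φ : B →+* B') (h : ∀ n x, x ∈ F.I n → φ x ∈ F'.I n) (f : ring F) (n : ℕ) :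
    ((map F F' φ h f : ring F') : B'[X]).coeff n = φ ((f : B[X]).coeff n) := by
  rw [coe_map, coeff_map]

theorem map_mon (φ : B →+* B') (h : ∀ n x, x ∈ F.I n → φ x ∈ F'.I n) {n : ℕ} {x : B}
    (hx : x ∈ F.I n) : map F F' φ h (mon F n x hx) = mon F' n (φ x) (h n x hx) := by
  apply Subtype.ext
  rw [coe_map, coe_mon, coe_mon, Polynomial.map_monomial]

end map

/-- The degree-zero part, as the constants. -/
def const {R : Type v} [CommRing R] (ρ : R →+* B) (h : ∀ r, ρ r ∈ F.I 0) : R →+* ring F :=
  ((C).comp ρ).codRestrict (ring F) (fun r n => by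
    change (C (ρ r) : B[X]).coeff n ∈ _
    rw [coeff_C]
    split_ifs with hn
    · subst hn; exact h r
    · exact (F.I n).zero_mem)

theorem coe_const {R : Type v} [CommRing R] (ρ : R →+* B) (h : ∀ r, ρ r ∈ F.I 0) (r : R) :
    (const F ρ h r : B[X]) = C (ρ r) := rfl

theorem const_eq_mon {R : Type v} [CommRing R] (ρ : R →+* B) (h : ∀ r, ρ r ∈ F.I 0) (r : R) :
    const F ρ h r = mon F 0 (ρ r) (h r) := by
  apply Subtype.ext
  rw [coe_const, coe_mon, monomial_zero_left]

theorem const_mem {R : Type v} [CommRing R] (ρ : R →+* B) (h : ∀ r, ρ r ∈ F.I 0) (r : R) :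
    const F ρ h r ∈ gr F 0 := by
  rw [const_eq_mon]; exact mon_mem F _ _ _

end

end K823.GrSub
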