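import Groth.Agent.RelProj.K823.Criterion
import Groth.Agent.RelProj.K823.CoordOf
import Groth.Agent.RelProj.K823.FreeSec
import Groth.Agent.Ega2.VeryAmpleAmple
import Groth.Agent.Ega3B.ProjProper

/-!
# H-projective morphisms are projective
-/

set_option autoImplicit false
universe u

open CategoryTheory CategoryTheory.Limits AlgebraicGeometry TopologicalSpace Opposite

noncomputable section

namespace K823.HProj

open Groth.Agent.Fdesc.LocGen Groth.Agent.Ega2.Nv Groth.Agent.Ega2.ExtCoeff K43.HomImm K43.VADef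
open K823.PnImm K823.CoordOf

variable {X Y : Scheme.{u}}

/-- An immersion into `P^n_Y` gives the section condition with a free module of finite rank. -/
theorem va_of_isImmersion {n : ℕ} {q : X ⟶ Y} {L : X.Modules} (i : X ⟶ CohB1.ProjSpaceOver n Y)
    [IsImmersion i] (hi : i ≫ CohB1.ProjSpaceOver.toBase n Y = q)
    (e : L ≅ (Scheme.Modules.pullback i).obj (Twist.twistOver n Y 1)) :
    ∃ s : Fin (n + 1) → Γ(L, ⊤), IsCoord (i ≫ pr n Y) s ∧ VA q (FreeSec.φ q s) := by
  obtain ⟨s, hs⟩ := exists_coord i e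
  refine ⟨s, hs, fun U hU x hx => ?_⟩
  have h1 : ∃ k, x ∈ nv L (s k) := by
    have h2 : (i ≫ pr n Y) x ∈ ⨆ j, D n j := by
      rw [show (⨆ j, D.{u} n j) = ⊤ from
        Groth.Agent.CurvesC.ProjSpaceBasic.iSup_Dp n (ULift.{u} ℤ)]; trivial
    obtain ⟨j, hj⟩ := Opens.mem_iSup.mp h2
    exact ⟨j, by rw [hs.nv_eq]; exact hj⟩
  obtain ⟨k, hk⟩ := h1
  have hnz : nz q (FreeSec.φ q s) (FreeSec.e k U) = q ⁻¹ᵁ U ⊓ nv L (s k) := by
    rw [nz, FreeSec.se_e, nv_res]
  refine ⟨FreeSec.e k U, by rw [hnz]; exact ⟨hx, hk⟩, ?_⟩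
  refine himm_congr hnz _ _ ?_ (himm q i hi rfl hs hU k)
  intro b hb
  refine ores_mem_of_closure hnz.le _ _ ?_ hb
  rintro b (⟨a, rfl⟩ | ⟨j, hj⟩)
  · rw [ores_ores]
    exact app_mem_ratioRing q _ (FreeSec.e k U) a
  · refine ratio_mem_ratioRing q _ (FreeSec.e k U) (FreeSec.e j U) ?_
    rw [FreeSec.se_e, FreeSec.se_e, res_res, res_res]
    have h3 := congrArg (res L hnz.le) hj
    rwa [res_smul, res_res, res_res] at h3

/-- H-projective morphisms are projective. -/
theorem isProjective_of_isHProjective (f : X ⟶ Y) (hf : RelProj.IsHProjective f) :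
    RelProj.IsProjective f := by
  obtain ⟨n, i, hi, hif⟩ := hf
  have hp := Groth.Agent.Ega3B.ProjProper.isProper_toBase n Y
  have hfp : IsProper f := by
    rw [← hif]
    infer_instance
  let L := (Scheme.Modules.pullback i).obj (Twist.twistOver n Y 1)
  have hL : PicF.IsInvertible L :=
    isInvertible_pullback i (Groth.Agent.Ega2.VeryAmpleAmple.isInvertible_twistOver n Y 1)
  obtain ⟨s, -, hVA⟩ := va_of_isImmersion (L := L) i hif (Iso.refl _)
  exact Criterion.isProjective_of_VA f (FreeSec.φ f s) hL FreeSec.isQCoh_EE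
    (fun U _ => FreeSec.finite_EE U) hVA

end K823.HProj
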