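import Groth.Agent.EGA2.K43.VADef
import Groth.Agent.Fga.QT4b
import Groth.Agent.Fga.QT4

/-!
# Immersions into projective space and sections

For an immersion `i : X ⟶ P^n_Y` over `Y` and sections `s k` of `L` corresponding to the coordinates: over an affine open
`U` of `Y`, `q⁻¹ U ⊓ X_{s k} ⟶ Spec` of the ring generated by the functions of `U` and the ratios is an immersion.
-/

set_option autoImplicit false
universe u

open CategoryTheory CategoryTheory.Limits AlgebraicGeometry TopologicalSpace Opposite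

noncomputable section

namespace K823.PnImm

open Groth.Agent.Fdesc.LocGen Groth.Agent.Ega2.Nv Groth.Agent.Ega2.ExtCoeff K43.HomImm K43.VADef
open Groth.Agent.CurvesC.ProjSpaceBasic

theorem isAffineOpen_inf {X Y S T : Scheme.{u}} {f : T ⟶ S} {g : Y ⟶ X} {iX : X ⟶ S} {iY : Y ⟶ T}
    (H : IsPullback g iY iX f) {US : S.Opens} {UT : T.Opens} {UX : X.Opens} (hUST : UT ≤ f ⁻¹ᵁ US)
    (hUSX : UX ≤ iX ⁻¹ᵁ US) (hS : IsAffineOpen US) (hT : IsAffineOpen UT) (hX : IsAffineOpen UX) :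
    IsAffineOpen (g ⁻¹ᵁ UX ⊓ iY ⁻¹ᵁ UT) := by
  have H' := Scheme.Hom.isPullback_resLE H hUST hUSX (UY := g ⁻¹ᵁ UX ⊓ iY ⁻¹ᵁ UT) rfl
  have : IsAffine US := hS
  have : IsAffine UT := hT
  have : IsAffine UX := hX
  exact IsAffine.of_isIso H'.isoPullback.hom

theorem isPushout_inf {X Y S T : Scheme.{u}} {f : T ⟶ S} {g : Y ⟶ X} {iX : X ⟶ S} {iY : Y ⟶ T}
    (H : IsPullback g iY iX f) {US : S.Opens} {UT : T.Opens} {UX : X.Opens} (hUST : UT ≤ f ⁻¹ᵁ US)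
    (hUSX : UX ≤ iX ⁻¹ᵁ US) (hS : IsAffineOpen US) (hT : IsAffineOpen UT) (hX : IsAffineOpen UX) :
    IsPushout (iX.appLE US UX hUSX) (f.appLE US UT hUST)
      (g.appLE UX (g ⁻¹ᵁ UX ⊓ iY ⁻¹ᵁ UT) inf_le_left) (iY.appLE UT (g ⁻¹ᵁ UX ⊓ iY ⁻¹ᵁ UT) inf_le_right) :=
  (isIso_pushoutSection_iff H hUST hUSX rfl).mp
    (isIso_pushoutSection_of_isAffineOpen H hUST hUSX rfl hS hT hX)

variable {X Y : Scheme.{u}} (q : X ⟶ Y) {n : ℕ}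

/-- The projection `P^n_Y ⟶ P^n_ℤ`. -/
abbrev pr (n : ℕ) (Y : Scheme.{u}) : CohB1.ProjSpaceOver n Y ⟶ CohB1.ProjSpace n (ULift.{u} ℤ) :=
  pullback.fst (CohB1.ProjSpace.toSpec n (ULift.{u} ℤ)) (specULiftZIsTerminal.from Y)

/-- The open `D_+(X_k)` of `P^n_ℤ`. -/
abbrev D (n : ℕ) (k : Fin (n + 1)) : (CohB1.ProjSpace n (ULift.{u} ℤ)).Opens := Dp n (ULift.{u} ℤ) k

theorem isPullback_pr (n : ℕ) (Y : Scheme.{u}) : IsPullback (pr n Y) (CohB1.ProjSpaceOver.toBase n Y)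
    (CohB1.ProjSpace.toSpec n (ULift.{u} ℤ)) (specULiftZIsTerminal.from Y) := IsPullback.of_hasPullback _ _

variable {L : X.Modules} (m : X ⟶ CohB1.ProjSpace n (ULift.{u} ℤ)) (s : Fin (n + 1) → Γ(L, ⊤))

/-- The sections `s k` are the coordinates of `m`. -/
structure IsCoord : Prop where
  gen : ∀ k, IsGen (res L (le_top : m ⁻¹ᵁ D n k ≤ ⊤) (s k))
  rel : ∀ j k, res L (le_top : m ⁻¹ᵁ D n j ≤ ⊤) (s k) =
    (m.app (D n j) (ratio n (ULift.{u} ℤ) j k) : Γ(X, m ⁻¹ᵁ D n j)) • res L (le_top : m ⁻¹ᵁ D n j ≤ ⊤) (s j)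

variable {m s}

theorem IsCoord.nv_eq (h : IsCoord m s) (k : Fin (n + 1)) : nv L (s k) = m ⁻¹ᵁ D n k := by
  apply le_antisymm
  · intro x hx
    have h1 : ∃ j, m x ∈ D n j := by
      have h2 : m x ∈ ⨆ j, D n j := by
        rw [show (⨆ j, D.{u} n j) = ⊤ from iSup_Dp n (ULift.{u} ℤ)]; trivial
      exact Opens.mem_iSup.mp h2
    obtain ⟨j, hj⟩ := h1
    have h3 : m ⁻¹ᵁ D n j ⊓ nv L (s k) = X.basicOpen (m.app (D n j) (ratio n (ULift.{u} ℤ) j k)) :=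
      nv_inf_of_eq_smul (s k) le_top (h.gen j) _ (h.rel j k)
    have h4 : x ∈ m ⁻¹ᵁ D n j ⊓ nv L (s k) := ⟨hj, hx⟩
    rw [h3, ← Scheme.preimage_basicOpen] at h4
    have h5 : (CohB1.ProjSpace n (ULift.{u} ℤ)).basicOpen (ratio n (ULift.{u} ℤ) j k) = D n j ⊓ D n k :=
      Groth.Agent.Fga.QT4.basicOpen_ratio n (ULift.{u} ℤ) j k
    rw [h5] at h4
    exact h4.2
  · exact (le_nv_iff L (s k) le_top).mpr (h.gen k)

/-- The ring generated by functions of `U` and ratios. -/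
def rg (s : Fin (n + 1) → Γ(L, ⊤)) (U : Y.Opens) (W : X.Opens) (hW : W ≤ q ⁻¹ᵁ U) (k : Fin (n + 1)) :
    Subring Γ(X, W) :=
  Subring.closure (Set.range (fun a : Γ(Y, U) => ores hW (q.app U a)) ∪
    {a | ∃ j, res L (le_top : W ≤ ⊤) (s j) = a • res L le_top (s k)})

theorem himm (i : X ⟶ CohB1.ProjSpaceOver n Y) [IsImmersion i]
    (hi : i ≫ CohB1.ProjSpaceOver.toBase n Y = q) (hm : i ≫ pr n Y = m) (h : IsCoord m s)
    {U : Y.Opens} (hU : IsAffineOpen U) (k : Fin (n + 1)) :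
    HImm (q ⁻¹ᵁ U ⊓ nv L (s k)) (rg q s U (q ⁻¹ᵁ U ⊓ nv L (s k)) inf_le_left k) := by
  subst hi
  subst hm
  set p := pr n Y
  set b := CohB1.ProjSpaceOver.toBase n Y
  have hUS : IsAffineOpen (⊤ : (Spec (CommRingCat.of (ULift.{u} ℤ))).Opens) := isAffineOpen_top _
  have hDaff : IsAffineOpen (D.{u} n k) := isAffineOpen_Dp n (ULift.{u} ℤ) k
  have hW : IsAffineOpen (p ⁻¹ᵁ D n k ⊓ b ⁻¹ᵁ U) :=
    isAffineOpen_inf (isPullback_pr n Y) (US := ⊤) (fun _ _ => trivial) (fun _ _ => trivial) hUS hU hDaff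
  have hpo := isPushout_inf (isPullback_pr n Y) (US := ⊤) (fun _ _ => trivial) (fun _ _ => trivial) hUS hU hDaff
  have himm := himm_of_isImmersion i hW
  have heq : (i ≫ b) ⁻¹ᵁ U ⊓ nv L (s k) = i ⁻¹ᵁ (p ⁻¹ᵁ D n k ⊓ b ⁻¹ᵁ U) := by
    rw [h.nv_eq k]
    exact inf_comm _ _
  refine himm_congr heq _ _ ?_ himm
  rintro _ ⟨z, rfl⟩
  have hle1 : i ⁻¹ᵁ (p ⁻¹ᵁ D n k ⊓ b ⁻¹ᵁ U) ≤ (i ≫ p) ⁻¹ᵁ D n k := i.preimage_mono inf_le_left
  have hle2 : i ⁻¹ᵁ (p ⁻¹ᵁ D n k ⊓ b ⁻¹ᵁ U) ≤ (i ≫ b) ⁻¹ᵁ U := i.preimage_mono inf_le_right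
  -- the subring of good elements
  let T := rg (i ≫ b) s U ((i ≫ b) ⁻¹ᵁ U ⊓ nv L (s k)) inf_le_left k
  let S : Subring Γ(CohB1.ProjSpaceOver n Y, p ⁻¹ᵁ D n k ⊓ b ⁻¹ᵁ U) :=
    T.comap ((ores heq.le).comp (i.app (p ⁻¹ᵁ D n k ⊓ b ⁻¹ᵁ U)).hom)
  have hS : S = ⊤ := by
    refine Groth.Agent.Fga.QT4b.subring_eq_top_of_isPushout hpo S ?_ ?_
    · intro x
      let S' : Subring Γ(CohB1.ProjSpace n (ULift.{u} ℤ), D n k) := S.comap (p.appLE (D n k)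
        (p ⁻¹ᵁ D n k ⊓ b ⁻¹ᵁ U) inf_le_left).hom
      refine Groth.Agent.Fga.QT4b.mem_of_ratio_mem n k S' (fun j => ?_) x
      change ores heq.le (i.app (p ⁻¹ᵁ D n k ⊓ b ⁻¹ᵁ U) (p.appLE (D n k)
        (p ⁻¹ᵁ D n k ⊓ b ⁻¹ᵁ U) inf_le_left (ratio n (ULift.{u} ℤ) k j))) ∈ T
      refine Subring.subset_closure (Or.inr ⟨j, ?_⟩)
      have h1 := congrArg (res L (heq.le.trans hle1)) (h.rel k j)
      rw [res_smul, res_res, res_res] at h1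
      rw [h1]
      congr 1
      have h2 : (i ≫ p).app (D n k) = p.app (D n k) ≫ i.app (p ⁻¹ᵁ D n k) := Scheme.Hom.comp_app _ _ _
      have h3 : i.app (p ⁻¹ᵁ D n k ⊓ b ⁻¹ᵁ U) (p.appLE (D n k)
        (p ⁻¹ᵁ D n k ⊓ b ⁻¹ᵁ U) inf_le_left (ratio n (ULift.{u} ℤ) k j)) =
          ores hle1 ((i ≫ p).app (D n k) (ratio n (ULift.{u} ℤ) k j)) := by
        rw [h2]
        exact congr(($(i.naturality (homOfLE (inf_le_left : p ⁻¹ᵁ D n k ⊓ b ⁻¹ᵁ U ≤ p ⁻¹ᵁ D n k)).op)).hom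
          (p.app (D n k) (ratio n (ULift.{u} ℤ) k j)))
      rw [h3, ores_ores]
    · intro y
      change ores heq.le (i.app (p ⁻¹ᵁ D n k ⊓ b ⁻¹ᵁ U) (b.appLE U
        (p ⁻¹ᵁ D n k ⊓ b ⁻¹ᵁ U) inf_le_right y)) ∈ T
      refine Subring.subset_closure (Or.inl ⟨y, ?_⟩)
      have h2 : (i ≫ b).app U = b.app U ≫ i.app (b ⁻¹ᵁ U) := Scheme.Hom.comp_app _ _ _
      have h3 : i.app (p ⁻¹ᵁ D n k ⊓ b ⁻¹ᵁ U) (b.appLE U
        (p ⁻¹ᵁ D n k ⊓ b ⁻¹ᵁ U) inf_le_right y) =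
          ores hle2 ((i ≫ b).app U y) := by
        rw [h2]
        exact congr(($(i.naturality (homOfLE (inf_le_right : p ⁻¹ᵁ D n k ⊓ b ⁻¹ᵁ U ≤ b ⁻¹ᵁ U)).op)).hom
          (b.app U y))
      rw [h3, ores_ores]
  have hz : z ∈ S := by rw [hS]; trivial
  exact hz

end K823.PnImm
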