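import Groth.Agent.RelProj.K823.SecRing
import Groth.Agent.RelProj.K823.GrLoc
import Groth.Agent.RelProj.K823.GrData
import Groth.Agent.EGA2.K43.VADef

/-!
# The graded algebra of a morphism `φ : E ⟶ q_* L`

For `q : X ⟶ Y` quasi-compact, `L` invertible and `E` quasi-coherent: over an affine open `U` of `Y` the graded ring
`fam (ρ U) (κ U)` generated in degree one by the sections `φ e`, as a quasi-coherent graded algebra `data : Data Y`.
-/

set_option autoImplicit false
universe u

open CategoryTheory CategoryTheory.Limits AlgebraicGeometry TopologicalSpace Opposite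

noncomputable section

namespace K823.SecFam

open Groth.Agent.Fdesc.LocGen Groth.Agent.Ega2.Nv Groth.Agent.Ega2.ExtCoeff
open K823.SecRing K823.GrSub K823.GrLoc K823.AffData K823.GrData K43.VADef

variable {X Y : Scheme.{u}} (q : X ⟶ Y) {L : X.Modules} {E : Y.Modules}
  (φ : E ⟶ (Scheme.Modules.pushforward q).obj L)

variable (L) in
/-- Functions of the base as constant families. -/
def ρ (U : Y.Opens) : Γ(Y, U) →+* B L (q ⁻¹ᵁ U) := (cstB (M := L)).comp (q.app U).hom

/-- Sections as coefficient families. -/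
def κ (U : Y.Opens) (e : Γ(E, U)) : B L (q ⁻¹ᵁ U) := crd (se q φ e)

theorem κ_add (U : Y.Opens) (e e' : Γ(E, U)) : κ q φ U (e + e') = κ q φ U e + κ q φ U e' := by
  rw [κ, se_add, crd_add]; rfl

theorem κ_smul (U : Y.Opens) (a : Γ(Y, U)) (e : Γ(E, U)) : κ q φ U (a • e) = ρ q L U a * κ q φ U e := by
  rw [κ, se_smul, crd_smul]; rfl

theorem bres_ρ {U V : Y.Opens} (h : V ≤ U) (a : Γ(Y, U)) :
    bres (q.preimage_mono h) (ρ q L U a) = ρ q L V (ores h a) := by
  have h2 : (q.app V (ores h a) : Γ(X, q ⁻¹ᵁ V)) = ores (q.preimage_mono h) (q.app U a) :=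
    congr(($(q.naturality (homOfLE h).op)).hom a)
  change bres (q.preimage_mono h) (cstB (q.app U a)) = cstB (q.app V (ores h a))
  rw [h2, bres_cstB]

theorem bres_κ {U V : Y.Opens} (h : V ≤ U) (e : Γ(E, U)) :
    bres (q.preimage_mono h) (κ q φ U e) = κ q φ V (res E h e) := by
  rw [κ, κ, bres_crd, res_se]

/-- The family over an open. -/
abbrev FF (U : Y.Opens) : Fam (B L (q ⁻¹ᵁ U)) := fam (ρ q L U) (κ q φ U)

/-- The graded ring over an open. -/
abbrev AA (U : Y.Opens) : Type u := ring (FF q φ U)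

/-- The grading. -/
abbrev GG (U : Y.Opens) : ℕ → AddSubgroup (AA q φ U) := gr (FF q φ U)

/-- The restriction maps. -/
def rr {U V : Y.Opens} (h : V ≤ U) : GG q φ U →+*ᵍ GG q φ V :=
  famMap (ρ q L U) (κ q φ U) (ρ q L V) (κ q φ V) (bres (q.preimage_mono h)) (ores h) (res E h)
    (bres_ρ q h) (bres_κ q φ h)

theorem coeff_rr {U V : Y.Opens} (h : V ≤ U) (f : AA q φ U) (n : ℕ) :
    (rr q φ h f : AA q φ V).1.coeff n = bres (q.preimage_mono h) (f.1.coeff n) :=
  coeff_famMap _ _ _ _ _ _ _ _ _ f n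

theorem AA_ext {U : Y.Opens} {f g : AA q φ U} (h : ∀ n, f.1.coeff n = g.1.coeff n) : f = g :=
  Subtype.ext (Polynomial.ext h)

theorem rr_refl {U : Y.Opens} (f : AA q φ U) : rr q φ (le_refl U) f = f :=
  AA_ext q φ fun n => by rw [coeff_rr, bres_refl]

theorem rr_rr {U V W : Y.Opens} (h : V ≤ U) (h' : W ≤ V) (f : AA q φ U) :
    rr q φ h' (rr q φ h f) = rr q φ (h'.trans h) f :=
  AA_ext q φ fun n => by rw [coeff_rr, coeff_rr, coeff_rr, bres_bres]

theorem rr_cst {U V : Y.Opens} (h : V ≤ U) (a : Γ(Y, U)) :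
    rr q φ h (cst (ρ q L U) (κ q φ U) a) = cst (ρ q L V) (κ q φ V) (ores h a) :=
  famMap_cst _ _ _ _ _ _ _ _ _ a

theorem fam_le_compat (U : Y.Opens) (n : ℕ) : (FF q φ U).I n ≤ Compat L (q ⁻¹ᵁ U) n := by
  refine le_of_gens _ _ _ fun r l hl => ?_
  have h1 : ∀ l : List Γ(E, U), (l.map (κ q φ U)).prod ∈ Compat L (q ⁻¹ᵁ U) l.length := by
    intro l
    induction l with
    | nil => simpa using one_mem_compat
    | cons e l ih =>
      rw [List.map_cons, List.prod_cons, List.length_cons, add_comm]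
      exact mul_mem_compat (crd_mem_compat _) ih
  have h2 := mul_mem_compat (cstB_mem_compat (M := L) (q.app U r)) (h1 l)
  rw [zero_add, hl] at h2
  exact h2

theorem coeff_mem_compat {U : Y.Opens} (f : AA q φ U) (n : ℕ) :
    f.1.coeff n ∈ Compat L (q ⁻¹ᵁ U) n := fam_le_compat q φ U n (f.2 n)

/-- The functor on the affine Zariski site. -/
def functor : (Y.AffineZariskiSite)ᵒᵖ ⥤ CommRingCat.{u} where
  obj U := CommRingCat.of (AA q φ U.unop.toOpens)
  map i := CommRingCat.ofHom (rr q φ (Scheme.AffineZariskiSite.toOpens_mono i.unop.le) :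
    AA q φ _ →+* AA q φ _)
  map_id U := CommRingCat.hom_ext (RingHom.ext fun f => rr_refl q φ f)
  map_comp i j := CommRingCat.hom_ext (RingHom.ext fun f =>
    (rr_rr q φ (Scheme.AffineZariskiSite.toOpens_mono i.unop.le)
      (Scheme.AffineZariskiSite.toOpens_mono j.unop.le) f).symm)

/-- The structure map. -/
def structure' : (Scheme.AffineZariskiSite.toOpensFunctor Y).op ⋙ Y.presheaf ⟶ functor q φ where
  app U := (CommRingCat.ofHom (cst (ρ q L U.unop.toOpens) (κ q φ U.unop.toOpens)) :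
    Γ(Y, U.unop.toOpens) ⟶ CommRingCat.of (AA q φ U.unop.toOpens))
  naturality U V i := by
    ext a
    exact (rr_cst q φ (Scheme.AffineZariskiSite.toOpens_mono i.unop.le) a).symm

variable [QuasiCompact q]

theorem isLocalization_rr (hL : PicF.IsInvertible L) (hE : Coh.IsQCoh E) {U : Y.Opens} (hU : IsAffineOpen U)
    (c : Γ(Y, U)) :
    letI := (rr q φ (Y.basicOpen_le c) : AA q φ U →+* AA q φ (Y.basicOpen c)).toAlgebra
    IsLocalization.Away (cst (ρ q L U) (κ q φ U) c) (AA q φ (Y.basicOpen c)) := by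
  refine GrLoc.isLocalization (bres_ρ q (Y.basicOpen_le c)) (bres_κ q φ (Y.basicOpen_le c)) c ?_ ?_ ?_ ?_
  · intro r'
    obtain ⟨n, a, ha⟩ := exists_ores_eq hU c r'
    refine ⟨n, a, ?_⟩
    rw [bres_ρ q (Y.basicOpen_le c), bres_ρ q (Y.basicOpen_le c), ha, map_mul, map_pow, mul_comm]
  · intro e'
    obtain ⟨n, e, he⟩ := exists_res_eq hE hU c e'
    refine ⟨n, e, ?_⟩
    rw [bres_κ q φ (Y.basicOpen_le c), bres_ρ q (Y.basicOpen_le c), he, κ_smul, map_pow, mul_comm]
  · intro n x hx h0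
    have hc : IsCompact ((q ⁻¹ᵁ U : X.Opens) : Set X) := q.isCompact_preimage hU.isCompact
    refine SecRing.exists_pow_mul_eq_zero hc ?_ (fam_le_compat q φ U n hx)
      (cstB_mem_compat (M := L) (q.app U c)) (q.preimage_mono (Y.basicOpen_le c)) (fun j => ?_) h0
    · intro x hx
      obtain ⟨V, e, hxV, he⟩ := (isInvertible_iff L).mp hL x
      exact ⟨V ⊓ q ⁻¹ᵁ U, res L inf_le_left e, ⟨hxV, hx⟩, inf_le_right, he.res _⟩
    · change X.basicOpen (ores j.le (q.app U c)) ≤ _
      rw [basicOpen_res, ← Scheme.preimage_basicOpen]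
      exact inf_le_right
  · exact RingedSpace.isUnit_res_basicOpen _ c

/-- The quasi-coherent graded algebra. -/
def data (hL : PicF.IsInvertible L) (hE : Coh.IsQCoh E) : Data Y where
  F := functor q φ
  α := structure' q φ
  coeq := Scheme.AffineZariskiSite.coequifibered_iff_forall_isLocalizationAway.mpr fun U c =>
    isLocalization_rr q φ hL hE U.2 c
  deg U _ := GG q φ U
  graded U _ := inferInstanceAs (GradedRing (GG q φ U))
  map_mem _ _ i _ _ hx := (rr q φ (Scheme.AffineZariskiSite.toOpens_mono i)).map_mem hx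
  str_mem _ _ r := cst_mem _ _ r

end K823.SecFam
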