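import Groth.Agent.Ega2.Nv

/-!
# The ring of families of local coefficients of a module

For `M : X.Modules` and an open `W`: `Idx M W` (opens `V ≤ W` with a generator of `M` over `V`) and the product
ring `B M W = Π_j Γ(X, j.V)`; `cst`, `crd m` (the coefficients of a section), restriction maps `bres`;
`Compat n b`: `b` transforms like a section of the `n`-th power of `M`.
-/

set_option autoImplicit false
universe u

open CategoryTheory CategoryTheory.Limits AlgebraicGeometry TopologicalSpace Opposite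

noncomputable section

namespace K823.SecRing

open Groth.Agent.Fdesc.LocGen Groth.Agent.Ega2.Nv Groth.Agent.Ega2.ExtCoeff

variable {X : Scheme.{u}}

/-- An open with a generator. -/
structure Idx (M : X.Modules) (W : X.Opens) where
  V : X.Opens
  le : V ≤ W
  g : Γ(M, V)
  gen : IsGen g

variable {M : X.Modules} {W : X.Opens}

/-- Restriction of an index to a smaller open. -/
def Idx.sub (j : Idx M W) (V' : X.Opens) (h : V' ≤ j.V) : Idx M W :=
  ⟨V', h.trans j.le, res M h j.g, j.gen.res h⟩

/-- An index of a smaller open as an index of a larger open. -/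
def Idx.up {W' : X.Opens} (j : Idx M W') (h : W' ≤ W) : Idx M W := ⟨j.V, j.le.trans h, j.g, j.gen⟩

variable (M W) in
/-- The product ring. -/
def B : Type u := ∀ j : Idx M W, Γ(X, j.V)

instance : CommRing (B M W) := inferInstanceAs (CommRing (∀ j : Idx M W, Γ(X, j.V)))

/-- Evaluation at an index. -/
def evB (j : Idx M W) : B M W →+* Γ(X, j.V) := Pi.evalRingHom _ j

theorem evB_apply (j : Idx M W) (b : B M W) : evB j b = b j := rfl

theorem B_ext {b b' : B M W} (h : ∀ j, b j = b' j) : b = b' := funext h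

/-- Restriction. -/
def bres {W' : X.Opens} (h : W' ≤ W) : B M W →+* B M W' :=
  RingHom.pi fun j => evB (j.up h)

theorem bres_apply {W' : X.Opens} (h : W' ≤ W) (b : B M W) (j : Idx M W') :
    bres h b j = b (j.up h) := rfl

theorem bres_refl (b : B M W) : bres le_rfl b = b := rfl

theorem bres_bres {W' W'' : X.Opens} (h : W' ≤ W) (h' : W'' ≤ W') (b : B M W) :
    bres h' (bres h b) = bres (h'.trans h) b := rfl

/-- Functions as constant families. -/
def cstB : Γ(X, W) →+* B M W := RingHom.pi fun j => ores j.le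

theorem cstB_apply (a : Γ(X, W)) (j : Idx M W) : (cstB a : B M W) j = ores j.le a := rfl

theorem bres_cstB {W' : X.Opens} (h : W' ≤ W) (a : Γ(X, W)) :
    bres h (cstB a : B M W) = cstB (ores h a) := by
  refine B_ext fun j => ?_
  rw [bres_apply, cstB_apply, cstB_apply, ores_ores]
  rfl

/-- The coefficients of a section. -/
def crd (m : Γ(M, W)) : B M W := fun j => (j.gen.exists_eq (res M j.le m)).choose

theorem crd_spec (m : Γ(M, W)) (j : Idx M W) : res M j.le m = crd m j • j.g :=
  (j.gen.exists_eq (res M j.le m)).choose_spec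

theorem crd_eq {m : Γ(M, W)} {j : Idx M W} {a : Γ(X, j.V)} (h : res M j.le m = a • j.g) :
    crd m j = a :=
  j.gen.ext ((crd_spec m j).symm.trans h)

theorem crd_add (m m' : Γ(M, W)) : crd (m + m') = crd m + crd m' := by
  refine B_ext fun j => crd_eq ?_
  rw [map_add, crd_spec m j, crd_spec m' j, ← add_smul]
  rfl

theorem crd_smul (a : Γ(X, W)) (m : Γ(M, W)) : crd (a • m) = cstB a * crd m := by
  refine B_ext fun j => crd_eq ?_
  rw [res_smul, crd_spec m j, smul_smul]
  rfl

theorem bres_crd {W' : X.Opens} (h : W' ≤ W) (m : Γ(M, W)) : bres h (crd m) = crd (res M h m) := by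
  refine B_ext fun j => (crd_eq ?_).symm
  rw [res_res]
  exact crd_spec m (j.up h)

/-- Families transforming like a section of the `n`-th power of `M`. -/
def Compat (M : X.Modules) (W : X.Opens) (n : ℕ) : AddSubgroup (B M W) where
  carrier := {b | ∀ (j j' : Idx M W) (h : j'.V ≤ j.V) (u : Γ(X, j'.V)), j'.g = u • res M h j.g →
    ores h (b j) = u ^ n * b j'}
  add_mem' {a b} ha hb j j' h u hu := by
    change ores h (a j + b j) = u ^ n * (a j' + b j')
    rw [map_add, ha j j' h u hu, hb j j' h u hu, mul_add]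
  zero_mem' j j' h u hu := by
    change ores h 0 = u ^ n * 0
    rw [map_zero, mul_zero]
  neg_mem' {a} ha j j' h u hu := by
    change ores h (- a j) = u ^ n * (- a j')
    rw [map_neg, ha j j' h u hu, mul_neg]

theorem mem_compat {n : ℕ} {b : B M W} : b ∈ Compat M W n ↔
    ∀ (j j' : Idx M W) (h : j'.V ≤ j.V) (u : Γ(X, j'.V)), j'.g = u • res M h j.g →
    ores h (b j) = u ^ n * b j' := Iff.rfl

theorem cstB_mem_compat (a : Γ(X, W)) : (cstB a : B M W) ∈ Compat M W 0 := by
  intro j j' h u _
  rw [cstB_apply, cstB_apply, ores_ores, pow_zero, one_mul]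

theorem crd_mem_compat (m : Γ(M, W)) : crd m ∈ Compat M W 1 := by
  intro j j' h u hu
  rw [pow_one]
  refine (j.gen.res h).ext ?_
  have h1 := congrArg (res M h) (crd_spec m j)
  rw [res_res, res_smul] at h1
  rw [← h1, mul_comm, mul_smul, ← hu]
  exact crd_spec m j'

theorem mul_mem_compat {m n : ℕ} {a b : B M W} (ha : a ∈ Compat M W m) (hb : b ∈ Compat M W n) :
    a * b ∈ Compat M W (m + n) := by
  intro j j' h u hu
  change ores h (a j * b j) = u ^ (m + n) * (a j' * b j')
  rw [map_mul, ha j j' h u hu, hb j j' h u hu, pow_add]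
  ring

theorem one_mem_compat : (1 : B M W) ∈ Compat M W 0 := by
  have := cstB_mem_compat (M := M) (W := W) 1
  rwa [map_one] at this

theorem pow_mem_compat {m : ℕ} {a : B M W} (ha : a ∈ Compat M W m) (n : ℕ) :
    a ^ n ∈ Compat M W (m * n) := by
  induction n with
  | zero => simpa using one_mem_compat
  | succ n ih => rw [pow_succ, Nat.mul_succ]; exact mul_mem_compat ih ha

theorem bres_mem_compat {W' : X.Opens} (h : W' ≤ W) {n : ℕ} {b : B M W} (hb : b ∈ Compat M W n) :
    bres h b ∈ Compat M W' n := fun j j' hj u hu => hb (j.up h) (j'.up h) hj u hu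

theorem compat_sub {n : ℕ} {b : B M W} (hb : b ∈ Compat M W n) (j : Idx M W) {V' : X.Opens}
    (h : V' ≤ j.V) : ores h (b j) = b (j.sub V' h) := by
  have := hb j (j.sub V' h) h 1 (by rw [one_smul]; rfl)
  rwa [one_pow, one_mul] at this

/-- Two indices with the same open: generators differ by a unit. -/
theorem compat_unit {n : ℕ} {b : B M W} (hb : b ∈ Compat M W n) {V : X.Opens} (hV : V ≤ W)
    {g g' : Γ(M, V)} (hg : IsGen g) (hg' : IsGen g') (u : Γ(X, V)) (hu : g' = u • g) :
    b ⟨V, hV, g, hg⟩ = u ^ n * b ⟨V, hV, g', hg'⟩ := by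
  have := hb ⟨V, hV, g, hg⟩ ⟨V, hV, g', hg'⟩ le_rfl u (by rw [res_refl]; exact hu)
  rwa [ores_refl] at this

theorem eq_zero_of_unit {n : ℕ} {b : B M W} (hb : b ∈ Compat M W n) {V : X.Opens} (hV : V ≤ W)
    {g g' : Γ(M, V)} (hg : IsGen g) (hg' : IsGen g') (h0 : b ⟨V, hV, g, hg⟩ = 0) :
    b ⟨V, hV, g', hg'⟩ = 0 := by
  obtain ⟨u, hu, hgg⟩ := hg.exists_unit hg'
  rw [compat_unit hb hV hg hg' u hgg] at h0
  exact (hu.pow n).mul_right_eq_zero.mp h0

/-- A compatible family vanishing on a cover vanishes. -/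
theorem eq_zero_of_cover {n : ℕ} {b : B M W} (hb : b ∈ Compat M W n) {ι : Type*} (i : ι → Idx M W)
    (hcov : W ≤ ⨆ k, (i k).V) (h0 : ∀ k, b (i k) = 0) : b = 0 := by
  refine B_ext fun j => ?_
  change b j = 0
  refine ores_ext (fun k => j.V ⊓ (i k).V) (fun k => inf_le_left) ?_ fun k => ?_
  · rw [← inf_iSup_eq]
    exact le_inf le_rfl (j.le.trans hcov)
  · rw [map_zero, compat_sub hb j inf_le_left]
    have h2 := compat_sub hb (i k) (inf_le_right : j.V ⊓ (i k).V ≤ (i k).V)
    rw [h0, map_zero] at h2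
    exact eq_zero_of_unit hb (inf_le_left.trans j.le) ((i k).gen.res inf_le_right)
      (j.gen.res inf_le_left) h2.symm

/-- Being compatible with vanishing restriction to the locus where `t` is invertible: killed by a power of `t`. -/
theorem exists_pow_mul_eq_zero (hW : IsCompact (W : Set X)) (hM : LocGen M W) {n m : ℕ} {b t : B M W}
    (hb : b ∈ Compat M W n) (ht : t ∈ Compat M W m) {W' : X.Opens} (hW' : W' ≤ W)
    (hle : ∀ j : Idx M W, X.basicOpen (t j) ≤ W') (h0 : bres hW' b = 0) :
    ∃ k : ℕ, t ^ k * b = 0 := by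
  obtain ⟨ι, hfin, V, hVaff, hVW, hgen, hcov⟩ := exists_finite_affine_cover hW
    (fun V => ∃ e : Γ(M, V), IsGen e) (fun V V' h ⟨e, he⟩ => ⟨res M h e, he.res h⟩)
    (fun x hx => by
      obtain ⟨V, e, hxV, -, he⟩ := hM x hx
      exact ⟨V, hxV, e, he⟩)
  choose g hg using hgen
  let i : ι → Idx M W := fun k => ⟨V k, hVW k, g k, hg k⟩
  have key : ∀ k, ∃ N : ℕ, t (i k) ^ N * b (i k) = 0 := by
    intro k
    have h1 : ores (X.basicOpen_le (t (i k))) (b (i k)) = 0 := by
      rw [compat_sub hb (i k)]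
      have h2 := congrFun h0 ⟨X.basicOpen (t (i k)), hle (i k),
        res M (X.basicOpen_le (t (i k))) (g k), (hg k).res _⟩
      exact h2
    obtain ⟨N, hN⟩ := exists_pow_mul_eq X (V k) (hVaff k).isCompact (t (i k)) (b (i k)) 0
      (by
        rw [map_zero]
        exact h1)
    rw [mul_zero] at hN
    exact ⟨N, hN⟩
  choose N hN using key
  have : Fintype ι := Fintype.ofFinite ι
  refine ⟨Finset.univ.sup N, ?_⟩
  refine eq_zero_of_cover (mul_mem_compat (pow_mem_compat ht _) hb) i hcov fun k => ?_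
  obtain ⟨m', hm'⟩ := Nat.exists_eq_add_of_le (Finset.le_sup (f := N) (Finset.mem_univ k))
  change t (i k) ^ (Finset.univ.sup N) * b (i k) = 0
  rw [hm', pow_add, mul_comm (t (i k) ^ N k), mul_assoc, hN, mul_zero]

end K823.SecRing
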