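import Mathlib.AlgebraicGeometry.ProjectiveSpectrum.Functor
import Mathlib.AlgebraicGeometry.Modules.Sheaf

/-!
# Morphisms to `Proj` from evaluation maps

For an open `V` of a scheme `X`, a ring homomorphism `ev : A →+* Γ(X, V)` from a graded ring and a
homogeneous `a` of positive degree with `ev a` a unit: `toProj ev a : V ⟶ Proj 𝒜`.
-/

set_option autoImplicit false
universe u

open CategoryTheory CategoryTheory.Limits AlgebraicGeometry TopologicalSpace Opposite
open HomogeneousLocalization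

noncomputable section

namespace K823.ToProj

variable {A σ : Type u} [CommRing A] [SetLike σ A] [AddSubgroupClass σ A] {𝒜 : ℕ → σ}
  [GradedRing 𝒜]

section theta

variable {R : Type u} [CommRing R] (ev : A →+* R) {a : A} (hu : IsUnit (ev a))

/-- The ring homomorphism `A_(a) → R` induced by `ev`. -/
def theta (𝒜 : ℕ → σ) [GradedRing 𝒜] : Away 𝒜 a →+* R :=
  (IsLocalization.Away.lift (S := Localization.Away a) a hu).comp
    (algebraMap (Away 𝒜 a) (Localization.Away a))

theorem theta_mk {d : ℕ} (ha : a ∈ 𝒜 d) (n : ℕ) (b : A) (hb : b ∈ 𝒜 (n • d)) :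
    theta ev hu 𝒜 (Away.mk 𝒜 ha n b hb) * ev a ^ n = ev b := by
  simp only [theta, RingHom.comp_apply, HomogeneousLocalization.algebraMap_apply, Away.val_mk]
  rw [Localization.mk_eq_mk', ← map_pow]
  have h := IsLocalization.mk'_spec (Localization.Away a) b
    (⟨a ^ n, ⟨n, rfl⟩⟩ : Submonoid.powers a)
  have h2 := congrArg (IsLocalization.Away.lift (S := Localization.Away a) a hu) h
  rw [map_mul, IsLocalization.Away.lift_eq, IsLocalization.Away.lift_eq] at h2
  exact h2

theorem hom_ext {R : Type*} [CommRing R] {d : ℕ} (ha : a ∈ 𝒜 d) {φ ψ : Away 𝒜 a →+* R}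
    (h : ∀ (n : ℕ) (b : A) (hb : b ∈ 𝒜 (n • d)), φ (Away.mk 𝒜 ha n b hb) =
      ψ (Away.mk 𝒜 ha n b hb)) : φ = ψ := by
  refine RingHom.ext fun x => ?_
  obtain ⟨n, b, hb, rfl⟩ := Away.mk_surjective 𝒜 ha x
  exact h n b hb

/-- Scaling invariance. -/
theorem theta_scale {d : ℕ} (ha : a ∈ 𝒜 d) (ev' : A →+* R) (hu' : IsUnit (ev' a)) (u : R)
    (hs : ∀ (n : ℕ) (b : A), b ∈ 𝒜 n → ev b = u ^ n * ev' b) :
    theta ev hu 𝒜 = theta ev' hu' 𝒜 := by
  refine hom_ext ha fun n b hb => ?_
  have h1 := theta_mk ev hu ha n b hb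
  have h2 := theta_mk ev' hu' ha n b hb
  rw [hs _ b hb, hs d a ha, ← h2] at h1
  have hud : IsUnit (u ^ d) := by
    have := hu
    rw [hs d a ha] at this
    exact isUnit_of_mul_isUnit_left this
  have h3 : IsUnit ((u ^ d * ev' a) ^ n) := (hud.mul hu').pow n
  apply h3.mul_left_injective
  simp only
  rw [h1, smul_eq_mul, mul_pow, ← pow_mul, mul_comm d n]
  ring

theorem theta_comp {R' : Type u} [CommRing R'] (φ : R →+* R') {d : ℕ} (ha : a ∈ 𝒜 d)
    (hu' : IsUnit ((φ.comp ev) a)) :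
    φ.comp (theta ev hu 𝒜) = theta (φ.comp ev) hu' 𝒜 := by
  refine hom_ext ha fun n b hb => ?_
  have h1 := congrArg φ (theta_mk ev hu ha n b hb)
  have h2 := theta_mk (φ.comp ev) hu' ha n b hb
  rw [map_mul, map_pow] at h1
  apply (hu'.pow n).mul_left_injective
  simp only
  rw [h2]
  exact h1

theorem theta_awayMap {d e : ℕ} (ha : a ∈ 𝒜 d) {c x : A} (hc : c ∈ 𝒜 e) (hx : x = a * c)
    (hux : IsUnit (ev x)) :
    (theta ev hux 𝒜).comp (awayMap 𝒜 hc hx) = theta ev hu 𝒜 := by
  refine hom_ext ha fun n b hb => ?_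
  rw [RingHom.comp_apply, awayMap_mk]
  have h1 := theta_mk ev hux (hx ▸ SetLike.mul_mem_graded ha hc) n (b * c ^ n)
    (by
      rw [smul_add]
      exact SetLike.mul_mem_graded hb (SetLike.pow_mem_graded n hc))
  have h2 := theta_mk ev hu ha n b hb
  apply (hux.pow n).mul_left_injective
  simp only
  rw [h1, hx, map_mul, map_mul, mul_pow, ← mul_assoc, h2, map_pow]

theorem theta_map {B τ : Type u} [CommRing B] [SetLike τ B] [AddSubgroupClass τ B] {ℬ : ℕ → τ}
    [GradedRing ℬ] (φ : ℬ →+*ᵍ 𝒜) {b : B} {d : ℕ} (hb : b ∈ ℬ d) (hub : IsUnit (ev (φ b)))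
    (hub' : IsUnit ((ev.comp (φ : B →+* A)) b)) :
    (theta ev hub 𝒜).comp (Away.map φ b) = theta (ev.comp (φ : B →+* A)) hub' ℬ := by
  refine hom_ext hb fun n c hc => ?_
  rw [RingHom.comp_apply, Away.map_mk]
  have h1 := theta_mk ev hub (φ.map_mem hb) n (φ c) (φ.map_mem hc)
  have h2 := theta_mk (ev.comp (φ : B →+* A)) hub' hb n c hc
  apply (hub.pow n).mul_left_injective
  simp only
  rw [h1]
  exact h2.symm

theorem theta_fromZero (z : 𝒜 0) :
    theta ev hu 𝒜 (fromZeroRingHom 𝒜 (Submonoid.powers a) z) = ev (z : A) := by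
  simp only [theta, RingHom.comp_apply, HomogeneousLocalization.algebraMap_apply]
  have : (fromZeroRingHom 𝒜 (Submonoid.powers a) z).val =
      algebraMap A (Localization.Away a) (z : A) := rfl
  rw [this, IsLocalization.Away.lift_eq]

end theta

end K823.ToProj
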